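import Groth.Agent.AdicRing.K26.CLocQ
import Mathlib.RingTheory.Flat.FaithfullyFlat.Basic
import Mathlib.RingTheory.Flat.Localization
import Mathlib.RingTheory.Flat.Stability

/-!
Faithful flatness of the product of complete localizations, given flatness.
-/

set_option autoImplicit false
universe u v w

namespace K26.CLocFF

open AdicRing

variable {R : Type v} [CommRing R] (I : Ideal R) {A : Type u} [CommRing A] [Algebra R A]

/-- The residue map of the complete localization at a maximal ideal. -/
theorem exists_ringHom (m : Ideal A) [hm : m.IsMaximal] (hIm : I.map (algebraMap R A) ≤ m) (f : A)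
    (hf : f ∉ m) : ∃ g : CLoc I f →+* A ⧸ m,
      g.comp (algebraMap A (CLoc I f)) = Ideal.Quotient.mk m := by
  let _ : Field (A ⧸ m) := Ideal.Quotient.field m
  have hu : IsUnit (Ideal.Quotient.mk m f) := by
    rw [isUnit_iff_ne_zero]
    exact fun h => hf (Ideal.Quotient.eq_zero_iff_mem.mp h)
  let g₀ : Localization.Away f →+* A ⧸ m := IsLocalization.Away.lift f hu
  have hg₀ : g₀.comp (algebraMap A (Localization.Away f)) = Ideal.Quotient.mk m :=
    IsLocalization.Away.lift_comp f hu
  let gR : Localization.Away f →ₐ[R] A ⧸ m :=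
    { g₀ with
      commutes' := fun r => by
        change g₀ (algebraMap R (Localization.Away f) r) = _
        rw [IsScalarTower.algebraMap_apply R A (Localization.Away f)]
        exact RingHom.congr_fun hg₀ (algebraMap R A r) }
  have hkill : ∀ x ∈ I.map (algebraMap R (Localization.Away f)), gR x ∈ (⊥ : Ideal (A ⧸ m)) := by
    intro x hx
    have h1 : (I.map (algebraMap R (Localization.Away f))).map
        (gR : Localization.Away f →+* A ⧸ m) ≤ ⊥ := by
      rw [Ideal.map_map, gR.comp_algebraMap, Ideal.map_le_iff_le_comap]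
      intro r hr
      rw [Ideal.mem_comap, Ideal.mem_bot, IsScalarTower.algebraMap_apply R A (A ⧸ m)]
      exact Ideal.Quotient.eq_zero_iff_mem.mpr (hIm (Ideal.mem_map_of_mem _ hr))
    exact h1 (Ideal.mem_map_of_mem _ hx)
  let g : CLoc I f →ₐ[R] A ⧸ m := K26.Compl.lift _ (⊥ : Ideal (A ⧸ m)) gR hkill
  refine ⟨g, ?_⟩
  apply RingHom.ext
  intro a
  have h1 : algebraMap A (CLoc I f) a =
      AdicCompletion.of _ _ (algebraMap A (Localization.Away f) a) := rfl
  rw [RingHom.comp_apply, h1]
  refine (K26.Compl.lift_of _ _ gR hkill _).trans ?_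
  exact RingHom.congr_fun hg₀ a

theorem faithfullyFlat_pi {r : ℕ} (f : Fin r → A) (hf : Ideal.span (Set.range f) = ⊤)
    (hjac : I.map (algebraMap R A) ≤ Ideal.jacobson ⊥)
    (hflat : ∀ i, Module.Flat A (CLoc I (f i))) :
    Module.FaithfullyFlat A (∀ i, CLoc I (f i)) := by
  have h0 : Module.Flat A (DirectSum (Fin r) fun i => CLoc I (f i)) := inferInstance
  have h1 : Module.Flat A (∀ i, CLoc I (f i)) :=
    Module.Flat.of_linearEquiv (DirectSum.linearEquivFunOnFintype A (Fin r)
      (fun i => CLoc I (f i))).symm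
  refine { submodule_ne_top := fun m hm htop => ?_ }
  have hIm : I.map (algebraMap R A) ≤ m := fun x hx => (Ideal.mem_sInf.mp (hjac hx)) ⟨bot_le, hm⟩
  have hex : ∃ i, f i ∉ m := by
    by_contra hcon
    push Not at hcon
    apply hm.ne_top
    rw [eq_top_iff, ← hf, Ideal.span_le]
    rintro _ ⟨i, rfl⟩
    exact hcon i
  obtain ⟨i, hi⟩ := hex
  obtain ⟨g, hg⟩ := exists_ringHom I m hIm (f i) hi
  -- the linear map to `A ⧸ m` through the `i`-th factor kills `m • ⊤`
  have h2 : ∀ x ∈ (m • ⊤ : Submodule A (∀ i, CLoc I (f i))), g (x i) = 0 := by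
    intro x hx
    refine Submodule.smul_induction_on hx (fun a ha y _ => ?_) (fun x y hx hy => ?_)
    · rw [Pi.smul_apply, Algebra.smul_def, map_mul]
      have h3 : g (algebraMap A (CLoc I (f i)) a) = 0 := by
        rw [← RingHom.comp_apply, hg]
        exact Ideal.Quotient.eq_zero_iff_mem.mpr ha
      rw [h3, zero_mul]
    · rw [Pi.add_apply, map_add, hx, hy, add_zero]
  have h4 : g ((1 : ∀ i, CLoc I (f i)) i) = 0 := h2 1 (by rw [htop]; trivial)
  rw [Pi.one_apply, map_one] at h4
  have h5 : Nontrivial (A ⧸ m) := Ideal.Quotient.nontrivial_iff.mpr hm.ne_top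
  exact one_ne_zero h4

end K26.CLocFF
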