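import Groth.Agent.S1964
import Mathlib.RingTheory.AdicCompletion.Basic
import Mathlib.RingTheory.Henselian
import Mathlib.RingTheory.Valuation.ValuationRing
import Mathlib.RingTheory.KrullDimension.Basic
import Mathlib.RingTheory.Localization.FractionRing
import Mathlib.RingTheory.Localization.Integral
import Mathlib.RingTheory.IntegralClosure.IntegrallyClosed

/-!
Complete valuation rings of height one: they are henselian, the integral closure in an algebraic
extension of the fraction field is a valuation ring.
-/

set_option autoImplicit false
universe u v w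

namespace K26.ComplVal

open IsLocalRing Polynomial

section HeightOne

variable {R : Type u} [CommRing R] [IsDomain R] [ValuationRing R] [Ring.KrullDimLE 1 R]

theorem radical_span (a : R) (ha : a ≠ 0) (hu : ¬ IsUnit a) :
    (Ideal.span {a}).radical = maximalIdeal R := by
  rw [Ideal.radical_eq_sInf]
  apply le_antisymm
  · refine sInf_le ⟨?_, inferInstance⟩
    rw [Ideal.span_singleton_le_iff_mem]
    exact (mem_maximalIdeal _).mpr hu
  · refine le_sInf ?_
    rintro P ⟨hP, hPp⟩
    have hne : P ≠ ⊥ := by
      rintro rfl
      exact ha (by simpa using hP)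
    have hmax : P.IsMaximal := Ideal.isMaximal_of_isPrime_of_ne_bot P hne
    exact (IsLocalRing.eq_maximalIdeal hmax).ge

/-- Some power of a non-unit is divisible by any given nonzero element. -/
theorem exists_dvd_pow (t : R) (htu : ¬ IsUnit t) (a : R) (ha : a ≠ 0) :
    ∃ n : ℕ, a ∣ t ^ n := by
  by_cases hu : IsUnit a
  · exact ⟨0, hu.dvd⟩
  · have h := radical_span a ha hu
    have ht : t ∈ (Ideal.span {a}).radical := by
      rw [h]; exact (mem_maximalIdeal _).mpr htu
    obtain ⟨n, hn⟩ := ht
    exact ⟨n, Ideal.mem_span_singleton.mp hn⟩

end HeightOne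

theorem not_isUnit_of_isAdicComplete {R : Type u} [CommRing R] [Nontrivial R]
    (t : R) [h : IsAdicComplete (Ideal.span {t}) R] : ¬ IsUnit t := by
  intro hu
  have htop : Ideal.span {t} = (⊤ : Ideal R) := Ideal.span_singleton_eq_top.mpr hu
  have := h.toIsHausdorff.haus' (1 : R) (fun n => by
    rw [htop, SModEq.zero]
    simp [Ideal.top_pow])
  exact one_ne_zero this

section Henselian

variable {R : Type u} [CommRing R] [IsDomain R] [ValuationRing R] [Ring.KrullDimLE 1 R]

/-- A complete valuation ring of height one is a henselian local ring. -/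
theorem henselianLocalRing (t : R) (ht : t ≠ 0) [IsAdicComplete (Ideal.span {t}) R] :
    HenselianLocalRing R := by
  have h1 : HenselianRing R (Ideal.span {t}) := inferInstance
  have h2 : HenselianRing R (maximalIdeal R) := by
    rw [← radical_span t ht (not_isUnit_of_isAdicComplete t)]
    exact (Groth.Agent.S0525.henselianRing_iff_radical R _).mp h1
  exact ⟨fun f hf a₀ h3 h4 => h2.is_henselian f hf a₀ h3 (h4.map _)⟩

end Henselian

/-- Kaplansky's lemma: if `x` satisfies a polynomial over the integrally closed local subring with
one coefficient a unit, then `x` or `x⁻¹` lies in the subring. -/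
theorem mem_or_inv_mem {V L : Type*} [CommRing V] [IsLocalRing V] [Field L] [Algebra V L]
    (hint : ∀ x : L, IsIntegral V x → x ∈ (algebraMap V L).range) (x : L) (hx : x ≠ 0) :
    ∀ (n : ℕ) (p : V[X]), p.natDegree ≤ n → aeval x p = 0 → (∃ i, IsUnit (p.coeff i)) →
      x ∈ (algebraMap V L).range ∨ x⁻¹ ∈ (algebraMap V L).range := by
  intro n
  induction n with
  | zero =>
    intro p hp hpx hu
    rw [Nat.le_zero, natDegree_eq_zero] at hp
    obtain ⟨a, rfl⟩ := hp
    rw [aeval_C] at hpx
    obtain ⟨i, hi⟩ := hu
    rcases Nat.eq_zero_or_pos i with rfl | hi0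
    · rw [coeff_C_zero] at hi
      exact absurd hpx (hi.map (algebraMap V L)).ne_zero
    · rw [coeff_C_of_ne_zero hi0.ne'] at hi
      exact absurd (isUnit_zero_iff.mp hi) zero_ne_one
  | succ n ih =>
    intro p hp hpx hu
    -- leading coefficient
    set a := p.coeff (n + 1) with ha
    by_cases hau : IsUnit a
    · left
      apply hint
      obtain ⟨u, hu'⟩ := hau
      refine ⟨C (↑u⁻¹ : V) * p, ?_, ?_⟩
      · apply monic_of_natDegree_le_of_coeff_eq_one (n + 1)
        · exact (natDegree_C_mul_le _ _).trans hp
        · rw [coeff_C_mul, ← ha, ← hu', Units.inv_mul]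
      · rw [← aeval_def, map_mul, hpx, mul_zero]
    · -- a x is integral
      have hb : IsIntegral V (algebraMap V L a * x) := by
        rcases eq_or_ne (p.natDegree) (n + 1) with hd | hd
        · have h1 := isIntegral_leadingCoeff_smul p x hpx
          rw [Algebra.smul_def] at h1
          rwa [leadingCoeff, hd] at h1
        · have h1 : p.natDegree < n + 1 := lt_of_le_of_ne hp hd
          have : a = 0 := coeff_eq_zero_of_natDegree_lt h1
          rw [this, map_zero, zero_mul]
          exact isIntegral_zero
      obtain ⟨b, hb⟩ := hint _ hb
      -- the new polynomial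
      let q : V[X] := p - C a * X ^ (n + 1) + C b * X ^ n
      have hqx : aeval x q = 0 := by
        simp only [q, map_add, map_sub, map_mul, aeval_C, map_pow, aeval_X, hpx, hb]
        ring
      have hqd : q.natDegree ≤ n := by
        rw [natDegree_le_iff_coeff_eq_zero]
        intro N hN
        simp only [q, coeff_add, coeff_sub, coeff_C_mul, coeff_X_pow]
        rcases eq_or_ne N (n + 1) with rfl | hN'
        · simp [ha]
        · have : p.coeff N = 0 := coeff_eq_zero_of_natDegree_lt (by omega)
          rw [this, if_neg hN', if_neg (by omega)]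
          simp
      obtain ⟨i, hi⟩ := hu
      by_cases hin : i < n
      · apply ih q hqd hqx
        refine ⟨i, ?_⟩
        simp only [q, coeff_add, coeff_sub, coeff_C_mul, coeff_X_pow]
        rw [if_neg (by omega), if_neg (by omega)]
        simpa using hi
      · have hi1 : i = n := by
          by_contra hne
          have : i = n + 1 ∨ n + 1 < i := by omega
          rcases this with h | h
          · rw [h] at hi; exact hau hi
          · rw [coeff_eq_zero_of_natDegree_lt (by omega)] at hi
            exact absurd (isUnit_zero_iff.mp hi) zero_ne_one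
        subst hi1
        by_cases hbu : IsUnit b
        · right
          obtain ⟨u, hu'⟩ := hbu
          refine ⟨(↑u⁻¹ : V) * a, ?_⟩
          have h1 : algebraMap V L (↑u⁻¹ : V) * algebraMap V L b = 1 := by
            rw [← map_mul, ← hu', Units.inv_mul, map_one]
          rw [map_mul]
          rw [hb, ← mul_assoc] at h1
          exact eq_inv_of_mul_eq_one_left h1
        · apply ih q hqd hqx
          refine ⟨i, ?_⟩
          simp only [q, coeff_add, coeff_sub, coeff_C_mul, coeff_X_pow]
          rw [if_neg (by omega)]
          simp only [mul_zero, sub_zero, mul_one, if_true]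
          by_contra hcon
          have h1 : b ∈ maximalIdeal V := (mem_maximalIdeal _).mpr hbu
          have h2 : p.coeff i + b ∈ maximalIdeal V := (mem_maximalIdeal _).mpr hcon
          have h3 : p.coeff i ∈ maximalIdeal V := by
            have := sub_mem h2 h1
            simpa using this
          exact ((mem_maximalIdeal _).mp h3) hi

/-- An algebraic element over the fraction field of a valuation ring satisfies a polynomial over the
valuation ring with a unit coefficient. -/
theorem exists_primitive_aeval_eq_zero (R : Type u) [CommRing R] [IsDomain R] [ValuationRing R]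
    {L : Type w} [Field L] [Algebra R L] (hinj : Function.Injective (algebraMap R L))
    (x : L) (hx : IsAlgebraic R x) :
    ∃ p : R[X], aeval x p = 0 ∧ ∃ i, p.coeff i = 1 := by
  classical
  obtain ⟨p, hp0, hpx⟩ := hx
  -- choose a coefficient dividing all others
  have key : ∀ s : Finset ℕ, s.Nonempty → ∃ i ∈ s, ∀ j ∈ s, p.coeff i ∣ p.coeff j := by
    intro s hs
    induction hs using Finset.Nonempty.cons_induction with
    | singleton a => exact ⟨a, by simp, by simp⟩
    | cons a s ha hs ih =>
      obtain ⟨i, his, hi⟩ := ih
      rcases ValuationRing.dvd_total (p.coeff i) (p.coeff a) with h | h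
      · refine ⟨i, by simp [his], ?_⟩
        intro j hj
        rcases Finset.mem_cons.mp hj with rfl | hj
        · exact h
        · exact hi j hj
      · refine ⟨a, by simp, ?_⟩
        intro j hj
        rcases Finset.mem_cons.mp hj with rfl | hj
        · exact dvd_rfl
        · exact h.trans (hi j hj)
  obtain ⟨i, his, hi⟩ := key p.support (by simpa using hp0)
  have hci : p.coeff i ≠ 0 := mem_support_iff.mp his
  have hdvd : C (p.coeff i) ∣ p := by
    rw [C_dvd_iff_dvd_coeff]
    intro j
    by_cases hj : j ∈ p.support
    · exact hi j hj
    · rw [notMem_support_iff.mp hj]; exact dvd_zero _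
  obtain ⟨q, hq⟩ := hdvd
  refine ⟨q, ?_, i, ?_⟩
  · rw [hq, map_mul, aeval_C] at hpx
    rcases mul_eq_zero.mp hpx with h | h
    · exact absurd ((map_eq_zero_iff _ hinj).mp h) hci
    · exact h
  · have h1 : p.coeff i = p.coeff i * q.coeff i := by
      conv_lhs => rw [hq]
      rw [coeff_C_mul]
    exact (mul_right_eq_self₀.mp h1.symm).resolve_right hci

/-- **Main theorem**: the integral closure of a henselian valuation ring in an
algebraic field extension: every element or its inverse is integral. -/
theorem isIntegral_or_isIntegral_inv (R : Type u) [CommRing R] [IsDomain R] [ValuationRing R]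
    [HenselianLocalRing R] {L : Type u} [Field L] [Algebra R L]
    (hinj : Function.Injective (algebraMap R L)) (x : L) (hx : IsAlgebraic R x) :
    IsIntegral R x ∨ IsIntegral R x⁻¹ := by
  rcases eq_or_ne x 0 with rfl | hx0
  · left; exact isIntegral_zero
  obtain ⟨p, hpx, i, hi⟩ := exists_primitive_aeval_eq_zero R hinj x hx
  obtain ⟨hV, -⟩ := Groth.Agent.S1964.result R (integralClosure R L)
  have hint : ∀ y : L, IsIntegral (integralClosure R L) y →
      y ∈ (algebraMap (integralClosure R L) L).range := by
    intro y hy
    have h1 : IsIntegral R y := isIntegral_trans y hy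
    exact ⟨⟨y, h1⟩, rfl⟩
  have h := mem_or_inv_mem hint x hx0 _ (p.map (algebraMap R (integralClosure R L))) le_rfl
    (by rw [aeval_map_algebraMap]; exact hpx) ⟨i, by rw [coeff_map, hi, map_one]; exact isUnit_one⟩
  rcases h with ⟨y, hy⟩ | ⟨y, hy⟩
  · left; rw [← hy]; exact y.2
  · right; rw [← hy]; exact y.2

/-- The integral closure of a henselian valuation ring in an algebraic field extension of
its fraction field is a valuation ring. -/
theorem valuationRing_integralClosure (R : Type u) [CommRing R] [IsDomain R] [ValuationRing R]
    [HenselianLocalRing R] (L : Type u) [Field L] [Algebra R L]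
    (hinj : Function.Injective (algebraMap R L)) [halg : Algebra.IsAlgebraic R L] :
    ValuationRing (integralClosure R L) := by
  have hfrac : IsFractionRing (integralClosure R L) L :=
    integralClosure.isFractionRing_of_algebraic (fun x hx => (map_eq_zero_iff _ hinj).mp hx)
  rw [ValuationRing.iff_isInteger_or_isInteger _ L]
  intro x
  rcases isIntegral_or_isIntegral_inv R hinj x (halg.isAlgebraic x) with h | h
  · left; exact ⟨⟨x, h⟩, rfl⟩
  · right; exact ⟨⟨x⁻¹, h⟩, rfl⟩

end K26.ComplVal
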