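import Groth.Agent.AdicRing.K26.RPowB
import Groth.Agent.AdicRing.K26.ComplVal

/-!
Restricted power series over a complete valuation ring of height one: evaluation, reduction to the
residue field, and the content of a nonzero series.
-/

set_option autoImplicit false
universe u v w

namespace K26.Content

open AdicRing IsLocalRing

section lift

variable {R : Type u} [CommRing R] (I : Ideal R) {n : ℕ} {B : Type v} [CommRing B] [Algebra R B]

theorem map_C_le (g : MvPolynomial (Fin n) R →ₐ[R] B) :
    ∀ x ∈ I.map (MvPolynomial.C : R →+* MvPolynomial (Fin n) R), g x ∈ I.map (algebraMap R B) := by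
  intro x hx
  have h1 := Ideal.mem_map_of_mem (g : MvPolynomial (Fin n) R →+* B) hx
  rw [Ideal.map_map] at h1
  have h2 : (g : MvPolynomial (Fin n) R →+* B).comp MvPolynomial.C = algebraMap R B :=
    g.comp_algebraMap
  rw [h2] at h1
  exact h1

/-- Extension of a map from the polynomial ring to the restricted power series ring. -/
noncomputable def rlift [IsAdicComplete (I.map (algebraMap R B)) B]
    (g : MvPolynomial (Fin n) R →ₐ[R] B) : RPow R I n →ₐ[R] B :=
  K26.Compl.lift _ (I.map (algebraMap R B)) g (map_C_le I g)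

theorem rlift_algebraMap [IsAdicComplete (I.map (algebraMap R B)) B]
    (g : MvPolynomial (Fin n) R →ₐ[R] B) (p : MvPolynomial (Fin n) R) :
    rlift I g (algebraMap _ (RPow R I n) p) = g p :=
  K26.Compl.lift_of _ _ _ _ p

end lift

section red

variable {R : Type u} [CommRing R] [IsLocalRing R] (I : Ideal R) (hI : I ≤ maximalIdeal R) (n : ℕ)

/-- Reduction of restricted power series to polynomials over the residue field. -/
noncomputable def red : RPow R I n →ₐ[R] MvPolynomial (Fin n) (R ⧸ maximalIdeal R) :=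
  K26.Compl.lift _ (⊥ : Ideal (MvPolynomial (Fin n) (R ⧸ maximalIdeal R)))
    (MvPolynomial.aeval (R := R) MvPolynomial.X) (by
      intro x hx
      have h1 := map_C_le I (MvPolynomial.aeval (R := R)
        (MvPolynomial.X : Fin n → MvPolynomial (Fin n) (R ⧸ maximalIdeal R))) x hx
      have h2 : I.map (algebraMap R (MvPolynomial (Fin n) (R ⧸ maximalIdeal R))) = ⊥ := by
        rw [eq_bot_iff, Ideal.map_le_iff_le_comap]
        intro r hr
        rw [Ideal.mem_comap, Ideal.mem_bot, MvPolynomial.algebraMap_apply]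
        have h3 : algebraMap R (R ⧸ maximalIdeal R) r = 0 :=
          Ideal.Quotient.eq_zero_iff_mem.mpr (hI hr)
        rw [h3, MvPolynomial.C_0]
      rw [h2] at h1
      exact h1)

theorem red_algebraMap (p : MvPolynomial (Fin n) R) :
    red I hI n (algebraMap _ (RPow R I n) p) =
      MvPolynomial.map (algebraMap R (R ⧸ maximalIdeal R)) p := by
  have h1 : red I hI n (algebraMap _ (RPow R I n) p) = MvPolynomial.aeval (R := R)
      (MvPolynomial.X : Fin n → MvPolynomial (Fin n) (R ⧸ maximalIdeal R)) p :=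
    K26.Compl.lift_of _ _ _ _ p
  rw [h1]
  have h2 : (MvPolynomial.aeval (R := R)
      (MvPolynomial.X : Fin n → MvPolynomial (Fin n) (R ⧸ maximalIdeal R)) :
        MvPolynomial (Fin n) R →ₐ[R] _) =
      MvPolynomial.mapAlgHom (Algebra.ofId R (R ⧸ maximalIdeal R)) := by
    apply MvPolynomial.algHom_ext
    intro i
    rw [MvPolynomial.aeval_X]
    exact (MvPolynomial.map_X _ _).symm
  rw [h2]
  rfl

theorem red_surjective : Function.Surjective (red I hI n) := by
  intro y
  obtain ⟨p, hp⟩ := MvPolynomial.map_surjective (algebraMap R (R ⧸ maximalIdeal R))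
    Ideal.Quotient.mk_surjective y
  exact ⟨algebraMap _ _ p, by rw [red_algebraMap, hp]⟩

end red

theorem map_span_pow {R : Type u} {B : Type v} [CommRing R] [CommRing B] [Algebra R B] (t : R)
    (N : ℕ) : ((Ideal.span {t}) ^ N).map (algebraMap R B) =
      Ideal.span {(algebraMap R B t) ^ N} := by
  rw [Ideal.span_singleton_pow, Ideal.map_span, Set.image_singleton, map_pow]

theorem map_span_one {R : Type u} {B : Type v} [CommRing R] [CommRing B] [Algebra R B] (t : R) :
    (Ideal.span {t}).map (algebraMap R B) = Ideal.span {algebraMap R B t} := by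
  rw [Ideal.map_span, Set.image_singleton]

section content

variable {R : Type u} [CommRing R] [IsDomain R] [ValuationRing R] (t : R)

/-- A nonzero polynomial over a valuation ring is a constant times a polynomial with a coefficient
equal to one. -/
theorem exists_C_mul {n : ℕ} (f : MvPolynomial (Fin n) R) (hf : f ≠ 0) :
    ∃ (a : R) (f' : MvPolynomial (Fin n) R) (ν : Fin n →₀ ℕ), a ≠ 0 ∧
      f = MvPolynomial.C a * f' ∧ f'.coeff ν = 1 := by
  classical
  have key : ∀ s : Finset (Fin n →₀ ℕ), s.Nonempty → ∃ i ∈ s, ∀ j ∈ s, f.coeff i ∣ f.coeff j := by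
    intro s hs
    induction hs using Finset.Nonempty.cons_induction with
    | singleton a => exact ⟨a, by simp, by simp⟩
    | cons a s ha hs ih =>
      obtain ⟨i, his, hi⟩ := ih
      rcases ValuationRing.dvd_total (f.coeff i) (f.coeff a) with h | h
      · refine ⟨i, by simp [his], ?_⟩
        intro j hj
        rcases Finset.mem_cons.mp hj with rfl | hj
        · exact h
        · exact hi j hj
      · refine ⟨a, by simp, ?_⟩
        intro j hj
        rcases Finset.mem_cons.mp hj with rfl | hj
        · exact dvd_rfl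
        · exact h.trans (hi j hj)
  obtain ⟨ν, hν, hdvd⟩ := key f.support (by simpa using hf)
  have hc : f.coeff ν ≠ 0 := MvPolynomial.mem_support_iff.mp hν
  have h1 : MvPolynomial.C (f.coeff ν) ∣ f := by
    rw [MvPolynomial.C_dvd_iff_dvd_coeff]
    intro j
    by_cases hj : j ∈ f.support
    · exact hdvd j hj
    · rw [MvPolynomial.notMem_support_iff.mp hj]; exact dvd_zero _
  obtain ⟨f', hf'⟩ := h1
  refine ⟨f.coeff ν, f', ν, hc, hf', ?_⟩
  have h2 : f.coeff ν = f.coeff ν * f'.coeff ν := by
    conv_lhs => rw [hf', MvPolynomial.coeff_C_mul]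
  exact (mul_right_eq_self₀.mp h2.symm).resolve_right hc

theorem exists_content (ht : t ≠ 0) (hle : Ideal.span {t} ≤ maximalIdeal R)
    {n : ℕ} (g : RPow R (Ideal.span {t}) n) (hg : g ≠ 0) :
    ∃ (a : R) (g' : RPow R (Ideal.span {t}) n), a ≠ 0 ∧ g = algebraMap R _ a * g' ∧
      red (Ideal.span {t}) hle n g' ≠ 0 := by
  classical
  have hI : (Ideal.span {t}).FG := ⟨{t}, by simp⟩
  have hcompl : IsAdicComplete (Ideal.span {t}) (RPow R (Ideal.span {t}) n) :=
    K26.RPowB.isAdicComplete R _ n hI
  have hH : IsHausdorff (Ideal.span {t}) (RPow R (Ideal.span {t}) n) := inferInstance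
  -- divide by the largest power of t
  have h1 : ∃ N, ¬ (algebraMap R (RPow R (Ideal.span {t}) n) t) ^ N ∣ g := by
    by_contra hcon
    push Not at hcon
    apply hg
    apply hH.haus
    intro N
    rw [SModEq.zero, Ideal.smul_top_eq_map, Submodule.restrictScalars_mem, map_span_pow,
      Ideal.mem_span_singleton]
    exact hcon N
  obtain ⟨N, hN, hmin⟩ : ∃ N, ¬ (algebraMap R (RPow R (Ideal.span {t}) n) t) ^ (N + 1) ∣ g ∧
      (algebraMap R (RPow R (Ideal.span {t}) n) t) ^ N ∣ g := by
    have h2 := Nat.find_spec h1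
    have h3 : Nat.find h1 ≠ 0 := by
      intro h0
      rw [h0, pow_zero] at h2
      exact h2 (one_dvd _)
    obtain ⟨M, hM⟩ := Nat.exists_eq_succ_of_ne_zero h3
    refine ⟨M, ?_, ?_⟩
    · rw [hM] at h2; exact h2
    · have h4 := Nat.find_min h1 (m := M) (by omega)
      push Not at h4
      exact h4
  obtain ⟨g₁, hg₁⟩ := hmin
  have hg₁t : ¬ algebraMap R (RPow R (Ideal.span {t}) n) t ∣ g₁ := by
    rintro ⟨c, hc⟩
    apply hN
    refine ⟨c, ?_⟩
    rw [hg₁, hc, pow_succ, mul_assoc]
  obtain ⟨f, hf⟩ := K26.RPowB.exists_sub_mem R (Ideal.span {t}) n hI g₁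
  rw [map_span_one, Ideal.mem_span_singleton] at hf
  obtain ⟨s, hs⟩ := hf
  have hfne : ¬ MvPolynomial.C t ∣ f := by
    rintro ⟨f₀, rfl⟩
    apply hg₁t
    refine ⟨s + algebraMap _ _ f₀, ?_⟩
    rw [mul_add, ← hs, map_mul]
    have h5 : algebraMap (MvPolynomial (Fin n) R) (RPow R (Ideal.span {t}) n) (MvPolynomial.C t) =
      algebraMap R _ t := rfl
    rw [h5]
    ring
  have hf0 : f ≠ 0 := by
    rintro rfl
    exact hfne (dvd_zero _)
  obtain ⟨α, f', ν, hα, hff', hν⟩ := exists_C_mul f hf0
  have htα : ¬ t ∣ α := by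
    rintro ⟨c, hc⟩
    apply hfne
    rw [hff', hc, MvPolynomial.C_mul, mul_assoc]
    exact dvd_mul_right _ _
  obtain ⟨c, hc⟩ := (ValuationRing.dvd_total α t).resolve_right htα
  have hcm : c ∈ maximalIdeal R := by
    rw [mem_maximalIdeal, mem_nonunits_iff]
    rintro ⟨u, hu⟩
    apply htα
    rw [hc, ← hu]
    exact (Units.mul_right_dvd.mpr dvd_rfl)
  refine ⟨t ^ N * α, algebraMap _ _ f' + algebraMap R _ c * s, mul_ne_zero (pow_ne_zero _ ht) hα,
    ?_, ?_⟩
  · have h6 : g₁ = algebraMap _ _ f + algebraMap R _ t * s := by rw [← hs]; ring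
    have h5 : algebraMap (MvPolynomial (Fin n) R) (RPow R (Ideal.span {t}) n) (MvPolynomial.C α) =
      algebraMap R _ α := rfl
    have h7 : algebraMap R (RPow R (Ideal.span {t}) n) t =
      algebraMap R _ α * algebraMap R _ c := by rw [← map_mul, ← hc]
    rw [hg₁, h6, hff', map_mul, h5, map_mul, map_pow]
    conv_lhs => rw [mul_add]
    conv_rhs => rw [mul_add]
    congr 1
    · ring
    · conv_lhs => enter [2, 1]; rw [h7]
      ring
  · rw [map_add, red_algebraMap, map_mul, AlgHom.commutes]
    have h8 : algebraMap R (MvPolynomial (Fin n) (R ⧸ maximalIdeal R)) c = 0 := by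
      rw [MvPolynomial.algebraMap_apply]
      have h3 : algebraMap R (R ⧸ maximalIdeal R) c = 0 :=
        Ideal.Quotient.eq_zero_iff_mem.mpr hcm
      rw [h3, MvPolynomial.C_0]
    rw [h8, zero_mul, add_zero]
    intro h0
    have h9 := congrArg (MvPolynomial.coeff ν) h0
    rw [MvPolynomial.coeff_map, hν, map_one, MvPolynomial.coeff_zero] at h9
    exact one_ne_zero h9

end content

end K26.Content
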