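import Groth.Agent.AdicRing.K26.RPowB
import Groth.Agent.AdicRing.K26.Content
import Mathlib.RingTheory.Localization.Ideal
import Mathlib.RingTheory.Localization.Away.Basic

/-!
The truncations of the complete localization `A⟨f⁻¹⟩` are the localizations of the truncations of `A`.
-/

set_option autoImplicit false
universe u v w

namespace K26.CLocQ

open AdicRing

section

variable {R : Type v} [CommRing R] (I : Ideal R) (hI : I.FG) {A : Type u} [CommRing A] [Algebra R A]

/-- The map on truncations at `J = (I ^ m)`. -/
noncomputable def truncMap (f : A) (m : ℕ) : A ⧸ (I ^ m).map (algebraMap R A) →+*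
    CLoc I f ⧸ (I ^ m).map (algebraMap R (CLoc I f)) :=
  Ideal.quotientMap _ (algebraMap A (CLoc I f)) (by
    rw [← Ideal.map_le_iff_le_comap, Ideal.map_map, ← IsScalarTower.algebraMap_eq])

theorem truncMap_mk (f : A) (m : ℕ) (a : A) : truncMap I f m (Ideal.Quotient.mk _ a) =
    Ideal.Quotient.mk _ (algebraMap A (CLoc I f) a) := rfl

theorem isAdicComplete_cLoc_map (f : A) (hI : I.FG) :
    IsAdicComplete (I.map (algebraMap R (CLoc I f))) (CLoc I f) := by
  have h1 := K26.Compl.isAdicComplete_map (I.map (algebraMap R (Localization.Away f))) (hI.map _)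
  rw [Ideal.map_map] at h1
  exact h1

theorem isAdicComplete_cLoc (f : A) (hI : I.FG) : IsAdicComplete I (CLoc I f) := by
  rw [← IsAdicComplete.map_algebraMap_iff (S := CLoc I f)]
  exact isAdicComplete_cLoc_map I f hI

theorem map_eq (f : A) (m : ℕ) : ((I.map (algebraMap R (Localization.Away f))) ^ m).map
    (algebraMap (Localization.Away f) (CLoc I f)) = (I ^ m).map (algebraMap R (CLoc I f)) := by
  rw [← Ideal.map_pow, Ideal.map_map]
  rfl

include hI in
theorem isLocalization_trunc (f : A) (m : ℕ) :
    letI := (truncMap I f m).toAlgebra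
    IsLocalization.Away (Ideal.Quotient.mk ((I ^ m).map (algebraMap R A)) f)
      (CLoc I f ⧸ (I ^ m).map (algebraMap R (CLoc I f))) := by
  let _ := (truncMap I f m).toAlgebra
  have h1 : IsLocalization ((Submonoid.powers f).map
      (Ideal.Quotient.mk ((I ^ m).map (algebraMap R A))))
      (CLoc I f ⧸ (I ^ m).map (algebraMap R (CLoc I f))) := by
    refine IsLocalization.of_surjective (Submonoid.powers f) (Localization.Away f)
      (Ideal.Quotient.mk ((I ^ m).map (algebraMap R A))) Ideal.Quotient.mk_surjective
      ((Ideal.Quotient.mk ((I ^ m).map (algebraMap R (CLoc I f)))).comp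
        (algebraMap (Localization.Away f) (CLoc I f))) ?_ ?_ ?_
    · intro x
      obtain ⟨y, rfl⟩ := Ideal.Quotient.mk_surjective x
      obtain ⟨s, hs⟩ := K26.Compl.exists_sub_of_mem _ (hI.map _) y m
      rw [map_eq] at hs
      exact ⟨s, (Ideal.Quotient.eq.mpr hs).symm⟩
    · rfl
    · intro s hs
      have h2 : algebraMap (Localization.Away f) (CLoc I f) s ∈
          (I ^ m).map (algebraMap R (CLoc I f)) := Ideal.Quotient.eq_zero_iff_mem.mp hs
      rw [← map_eq] at h2
      have h3 := K26.Compl.evalₐ_eq_zero_of_mem _ _ m h2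
      rw [AlgHom.commutes, Ideal.Quotient.algebraMap_eq, Ideal.Quotient.eq_zero_iff_mem,
        ← Ideal.map_pow] at h3
      rw [Ideal.mk_ker, Ideal.map_map, ← IsScalarTower.algebraMap_eq]
      exact h3
  have h2 : (Submonoid.powers f).map (Ideal.Quotient.mk ((I ^ m).map (algebraMap R A))) =
      Submonoid.powers (Ideal.Quotient.mk ((I ^ m).map (algebraMap R A)) f) :=
    Submonoid.map_powers _ _
  rw [h2] at h1
  exact h1

end

section criterion

variable (R : Type u) [CommRing R] (I : Ideal R) (hI : I.FG) (B : Type u) [CommRing B]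
  [Algebra R B]

include hI in
/-- A complete algebra is topologically of finite type iff it is of finite type modulo `I`. -/
theorem topFiniteType_iff [IsAdicComplete (I.map (algebraMap R B)) B] :
    TopFiniteType R I B ↔ Algebra.FiniteType R (B ⧸ I.map (algebraMap R B)) := by
  constructor
  · rintro ⟨n, φ, hφ⟩
    exact K26.RPowB.finiteType_quot φ hφ hI
  · intro h
    obtain ⟨n, π, hπ⟩ := Algebra.FiniteType.iff_quotient_mvPolynomial''.mp h
    have hb : ∀ i : Fin n, ∃ b : B, Ideal.Quotient.mk (I.map (algebraMap R B)) b =
      π (MvPolynomial.X i) := fun i => Ideal.Quotient.mk_surjective _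
    choose b hb using hb
    refine ⟨n, K26.Content.rlift I (MvPolynomial.aeval b), ?_⟩
    have hB : IsAdicComplete I B := by
      rw [← IsAdicComplete.map_algebraMap_iff (S := B)]; infer_instance
    have h1 : IsAdicComplete I (RPow R I n) := K26.RPowB.isAdicComplete R I n hI
    have h2 : Function.Surjective (K26.Content.rlift I (MvPolynomial.aeval b) :
        RPow R I n →ₐ[R] B).toLinearMap := by
      apply surjective_of_mkQ_comp_surjective (I := I)
      intro y
      obtain ⟨x, rfl⟩ := Submodule.Quotient.mk_surjective _ y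
      obtain ⟨p, hp⟩ := hπ (Ideal.Quotient.mk _ x)
      refine ⟨algebraMap (MvPolynomial (Fin n) R) (RPow R I n) p, ?_⟩
      change Submodule.Quotient.mk (K26.Content.rlift I (MvPolynomial.aeval b) _) = _
      rw [K26.Content.rlift_algebraMap, Submodule.Quotient.eq, Ideal.smul_top_eq_map,
        Submodule.restrictScalars_mem, ← Ideal.Quotient.eq, ← hp]
      have h3 : (Ideal.Quotient.mkₐ R (I.map (algebraMap R B))).comp (MvPolynomial.aeval b) = π := by
        apply MvPolynomial.algHom_ext
        intro i
        rw [AlgHom.comp_apply, MvPolynomial.aeval_X]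
        exact hb i
      exact DFunLike.congr_fun h3 p
    exact h2

end criterion

end K26.CLocQ
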