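import Groth.Prelude.Def_W4bk4boschfrg79
import Mathlib.RingTheory.Flat.EquationalCriterion
import Mathlib.RingTheory.FiniteType
import Mathlib.RingTheory.Finiteness.Ideal

/-!
Power torsion in the chart algebras `A[f_j / f_i]` and their completions.
-/

set_option autoImplicit false
universe u v w

namespace K26.ChartTors

open AdicRing

/-- Annihilators of finitely generated ideals in a flat algebra come from the base. -/
theorem exists_sum_of_forall_mul_eq_zero {C : Type u} {E : Type v} [CommRing C] [CommRing E]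
    [Algebra C E] [Module.Flat C E] (J : Ideal C) (hJ : J.FG) (x : E)
    (hx : ∀ a ∈ J, algebraMap C E a * x = 0) :
    ∃ (k : ℕ) (y : Fin k → C) (z : Fin k → E), (∀ j, ∀ a ∈ J, a * y j = 0) ∧
      x = ∑ j, algebraMap C E (y j) * z j := by
  have hfin : Module.Finite C J := Module.Finite.iff_fg.mpr hJ
  let X : C →ₗ[C] E := LinearMap.toSpanSingleton C E x
  have h0 : X ∘ₗ J.subtype = 0 := by
    apply LinearMap.ext
    intro a
    change (a : C) • x = 0
    rw [Algebra.smul_def]
    exact hx a.1 a.2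
  obtain ⟨k, a, y, hxy, ha⟩ := Module.Flat.exists_factorization_of_comp_eq_zero_of_free h0
  refine ⟨k, fun j => a 1 j, fun j => y (Finsupp.single j 1), ?_, ?_⟩
  · intro j b hb
    have h1 : a b = 0 := LinearMap.congr_fun ha ⟨b, hb⟩
    have h2 : a b = b • a 1 := by rw [← map_smul, smul_eq_mul, mul_one]
    rw [h2] at h1
    have h3 := DFunLike.congr_fun h1 j
    exact h3
  · have h1 : x = X 1 := by simp [X]
    rw [h1, hxy, LinearMap.comp_apply]
    have h2 : a 1 = ∑ j, a 1 j • Finsupp.single j (1 : C) := by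
      conv_lhs => rw [← Finsupp.univ_sum_single (a 1)]
      exact Finset.sum_congr rfl (fun j _ => by rw [Finsupp.smul_single, smul_eq_mul, mul_one])
    conv_lhs => rw [h2]
    rw [map_sum]
    exact Finset.sum_congr rfl (fun j _ => by rw [map_smul, Algebra.smul_def])

section chart

variable {A : Type u} [CommRing A] {ι : Type} (f : ι → A) (i : ι)

theorem algebraMap_mul_X (j : {j : ι // j ≠ i}) :
    algebraMap A (chartAlg f i) (f i) * (Ideal.Quotient.mk _ (MvPolynomial.X j) : chartAlg f i) =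
      algebraMap A (chartAlg f i) (f j.1) := by
  change (Ideal.Quotient.mk _ (MvPolynomial.C (f i)) : chartAlg f i) *
    Ideal.Quotient.mk _ (MvPolynomial.X j) = Ideal.Quotient.mk _ (MvPolynomial.C (f j.1))
  rw [← map_mul, Ideal.Quotient.eq]
  exact Ideal.subset_span ⟨j, rfl⟩

/-- In the chart algebra, the ideal generated by the `f j` is generated by `f i`. -/
theorem map_span_le : (Ideal.span (Set.range f)).map (algebraMap A (chartAlg f i)) ≤
    Ideal.span {algebraMap A (chartAlg f i) (f i)} := by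
  classical
  rw [Ideal.map_span, Ideal.span_le]
  rintro _ ⟨_, ⟨j, rfl⟩, rfl⟩
  rw [SetLike.mem_coe, Ideal.mem_span_singleton]
  by_cases hj : j = i
  · rw [hj]
  · exact ⟨_, (algebraMap_mul_X f i ⟨j, hj⟩).symm⟩

/-- Some multiple of any element of the chart algebra by a power of `f i` comes from `A`. -/
theorem exists_pow_mul_eq (y : chartAlg f i) :
    ∃ (N : ℕ) (a : A), algebraMap A (chartAlg f i) (f i) ^ N * y = algebraMap A (chartAlg f i) a := by
  obtain ⟨p, rfl⟩ := Ideal.Quotient.mk_surjective y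
  induction p using MvPolynomial.induction_on with
  | C a => exact ⟨0, a, by rw [pow_zero, one_mul]; rfl⟩
  | add p q hp hq =>
    obtain ⟨N, a, ha⟩ := hp
    obtain ⟨M, b, hb⟩ := hq
    refine ⟨N + M, f i ^ M * a + f i ^ N * b, ?_⟩
    rw [map_add, map_add, map_mul, map_mul, ← ha, ← hb, map_pow, map_pow]
    ring
  | mul_X p j hp =>
    obtain ⟨N, a, ha⟩ := hp
    refine ⟨N + 1, a * f j.1, ?_⟩
    rw [map_mul, map_mul, ← ha, ← algebraMap_mul_X f i j]
    ring

/-- The kernel of `A → A[f_j / f_i]` is `f_i`-power torsion. -/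
theorem exists_pow_mul_eq_zero (a : A) (ha : algebraMap A (chartAlg f i) a = 0) :
    ∃ N : ℕ, f i ^ N * a = 0 := by
  let g : chartAlg f i →+* Localization.Away (f i) :=
    Ideal.Quotient.lift _ (MvPolynomial.eval₂Hom (algebraMap A (Localization.Away (f i)))
      (fun j => algebraMap A _ (f j.1) * IsLocalization.Away.invSelf (f i))) (by
      intro b hb
      rw [← RingHom.mem_ker]
      refine (Ideal.span_le.mpr ?_) hb
      rintro _ ⟨j, rfl⟩
      simp only [SetLike.mem_coe, RingHom.mem_ker, map_sub, map_mul, MvPolynomial.eval₂Hom_C,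
        MvPolynomial.eval₂Hom_X']
      rw [mul_left_comm, IsLocalization.Away.mul_invSelf, mul_one, sub_self])
  have h1 : g (algebraMap A (chartAlg f i) a) = algebraMap A _ a := by
    change Ideal.Quotient.lift _ _ _ (Ideal.Quotient.mk _ (MvPolynomial.C a)) = _
    rw [Ideal.Quotient.lift_mk, MvPolynomial.eval₂Hom_C]
  rw [ha, map_zero] at h1
  obtain ⟨⟨_, N, rfl⟩, hN⟩ := (IsLocalization.map_eq_zero_iff (Submonoid.powers (f i)) _ a).mp h1.symm
  exact ⟨N, hN⟩

end chart

section torsion

variable {R : Type w} [CommRing R] (I : Ideal R) (hI : I.FG) {A : Type u} [CommRing A] [Algebra R A]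
  (hT : NoPowTorsion I A) {ι : Type} (f : ι → A) (i : ι)

include hI hT in
/-- `I`-power torsion elements of the chart algebra are `f_i`-power torsion. -/
theorem exists_pow_mul_eq_zero_of_chart (n : ℕ) (y : chartAlg f i)
    (hy : ∀ a ∈ I ^ n, algebraMap R (chartAlg f i) a * y = 0) :
    ∃ N : ℕ, algebraMap A (chartAlg f i) (f i) ^ N * y = 0 := by
  classical
  obtain ⟨N, a, ha⟩ := exists_pow_mul_eq f i y
  obtain ⟨T, hTn⟩ : (I ^ n).FG := Ideal.FG.pow hI
  have h1 : ∀ b ∈ I ^ n, ∃ M : ℕ, f i ^ M * (algebraMap R A b * a) = 0 := by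
    intro b hb
    apply exists_pow_mul_eq_zero
    rw [map_mul, ← ha, ← IsScalarTower.algebraMap_apply, mul_left_comm, hy b hb, mul_zero]
  have h2 : ∃ M : ℕ, ∀ b ∈ T, f i ^ M * (algebraMap R A b * a) = 0 := by
    have h3 : ∀ b : T, ∃ M : ℕ, f i ^ M * (algebraMap R A b * a) = 0 := fun b =>
      h1 b (by rw [← hTn]; exact Ideal.subset_span b.2)
    choose M hM using h3
    refine ⟨∑ b : T, M b, fun b hb => ?_⟩
    have h4 : M ⟨b, hb⟩ ≤ ∑ b : T, M b := Finset.single_le_sum (f := M)
      (fun _ _ => Nat.zero_le _) (Finset.mem_univ (⟨b, hb⟩ : T))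
    obtain ⟨k, hk⟩ := Nat.exists_eq_add_of_le h4
    rw [hk, pow_add, mul_comm (f i ^ M ⟨b, hb⟩), mul_assoc, hM ⟨b, hb⟩, mul_zero]
  obtain ⟨M, hM⟩ := h2
  have h3 : f i ^ M * a = 0 := by
    refine hT _ n (fun b hb => ?_)
    rw [← hTn] at hb
    induction hb using Submodule.span_induction with
    | mem b hb =>
      rw [Algebra.smul_def, mul_left_comm]
      exact hM b hb
    | zero => rw [zero_smul]
    | add b c _ _ hb hc => rw [add_smul, hb, hc, add_zero]
    | smul c b _ hb => rw [smul_eq_mul, mul_smul, hb, smul_zero]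
  refine ⟨M + N, ?_⟩
  rw [pow_add, mul_assoc, ha, ← map_pow, ← map_mul, h3, map_zero]

end torsion

end K26.ChartTors
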