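import Mathlib.RingTheory.AdicCompletion.Algebra
import Mathlib.RingTheory.AdicCompletion.Completeness
import Mathlib.RingTheory.AdicCompletion.RingHom

/-!
Universal property of the adic completion of a ring at a finitely generated ideal.
-/

set_option autoImplicit false
universe u v w

namespace K26.Compl

open AdicCompletion

section lift

variable {R : Type u} [CommRing R] {S : Type v} [CommRing S] [Algebra R S]
  {B : Type w} [CommRing B] [Algebra R B]

theorem pow_le_comap {J : Ideal S} {I' : Ideal B} (g : S →ₐ[R] B)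
    (h : ∀ x ∈ J, g x ∈ I') (n : ℕ) : J ^ n ≤ (I' ^ n).comap g := by
  rw [← Ideal.map_le_iff_le_comap]
  have h1 : J.map g ≤ I' := Ideal.map_le_iff_le_comap.mpr h
  calc (J ^ n).map g = (J.map g) ^ n := Ideal.map_pow g J n
    _ ≤ I' ^ n := Ideal.pow_right_mono h1 n

theorem evalₐ_eq_mk_iff_of_le (J : Ideal S) (x : AdicCompletion J S) {m n : ℕ} (hmn : m ≤ n)
    (s : S) (hs : evalₐ J n x = Ideal.Quotient.mk _ s) : evalₐ J m x = Ideal.Quotient.mk _ s := by
  induction x using AdicCompletion.induction_on with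
  | _ a =>
    rw [evalₐ_mk] at hs ⊢
    rw [← AdicCompletion.Ideal.mk_eq_mk J hmn a]
    rw [Ideal.Quotient.eq] at hs ⊢
    exact Ideal.pow_le_pow_right hmn hs

/-- Extension of an algebra map to the completion. -/
noncomputable def lift (J : Ideal S) (I' : Ideal B) [IsAdicComplete I' B] (g : S →ₐ[R] B)
    (h : ∀ x ∈ J, g x ∈ I') : AdicCompletion J S →ₐ[R] B :=
  IsAdicComplete.liftAlgHom I'
    (fun n => (Ideal.quotientMapₐ (I' ^ n) g (pow_le_comap g h n)).comp
      ((evalₐ J n).restrictScalars R))
    (by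
      intro m n hmn
      apply AlgHom.ext
      intro x
      obtain ⟨s, hs⟩ := Ideal.Quotient.mk_surjective (evalₐ J n x)
      have h2 : evalₐ J m x = Ideal.Quotient.mk _ s := evalₐ_eq_mk_iff_of_le J x hmn s hs.symm
      simp only [AlgHom.comp_apply, AlgHom.restrictScalars_apply, h2, ← hs]
      rfl)

theorem mk_lift (J : Ideal S) (I' : Ideal B) [IsAdicComplete I' B] (g : S →ₐ[R] B)
    (h : ∀ x ∈ J, g x ∈ I') (n : ℕ) (x : AdicCompletion J S) (s : S)
    (hs : evalₐ J n x = Ideal.Quotient.mk _ s) :
    Ideal.Quotient.mk (I' ^ n) (lift J I' g h x) = Ideal.Quotient.mk (I' ^ n) (g s) := by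
  have h1 := IsAdicComplete.mk_liftAlgHom I'
    (fun n => (Ideal.quotientMapₐ (I' ^ n) g (pow_le_comap g h n)).comp
      ((evalₐ J n).restrictScalars R)) (by
      intro m n hmn
      apply AlgHom.ext
      intro x
      obtain ⟨s, hs⟩ := Ideal.Quotient.mk_surjective (evalₐ J n x)
      have h2 : evalₐ J m x = Ideal.Quotient.mk _ s := evalₐ_eq_mk_iff_of_le J x hmn s hs.symm
      simp only [AlgHom.comp_apply, AlgHom.restrictScalars_apply, h2, ← hs]
      rfl) n x
  refine Eq.trans h1 ?_
  simp only [AlgHom.comp_apply, AlgHom.restrictScalars_apply, hs]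
  rfl

theorem lift_of (J : Ideal S) (I' : Ideal B) [IsAdicComplete I' B] (g : S →ₐ[R] B)
    (h : ∀ x ∈ J, g x ∈ I') (s : S) : lift J I' g h (of J S s) = g s := by
  have hH : IsHausdorff I' B := inferInstance
  have h1 := hH.haus (lift J I' g h (of J S s) - g s) (fun n => by
    rw [SModEq.zero, smul_eq_mul, Ideal.mul_top, ← Ideal.Quotient.eq]
    exact mk_lift J I' g h n _ s (evalₐ_of J n s))
  exact sub_eq_zero.mp h1

end lift

section ext

variable {S : Type v} [CommRing S] {B : Type w} [CommRing B]

/-- Elements of the completion that vanish modulo `J ^ n` lie in the ideal generated by `J ^ n`. -/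
theorem mem_map_pow_of_evalₐ_eq_zero (J : Ideal S) (hJ : J.FG) (x : AdicCompletion J S) (n : ℕ)
    (hx : evalₐ J n x = 0) : x ∈ (J ^ n).map (algebraMap S (AdicCompletion J S)) := by
  have h1 : x ∈ (eval J S n).ker := by
    rw [LinearMap.mem_ker]
    have h : (J ^ n • ⊤ : Ideal S) = J ^ n := by ext x; simp
    apply (Ideal.quotientEquivAlgOfEq S h).injective
    rw [_root_.map_zero]
    exact hx
  rw [← pow_smul_top_eq_ker_eval hJ, Ideal.smul_top_eq_map] at h1
  exact h1

/-- Every element of the completion is, modulo `J ^ n`, in the image of the ring. -/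
theorem exists_sub_of_mem (J : Ideal S) (hJ : J.FG) (x : AdicCompletion J S) (n : ℕ) :
    ∃ s : S, x - of J S s ∈ (J ^ n).map (algebraMap S (AdicCompletion J S)) := by
  obtain ⟨s, hs⟩ := Ideal.Quotient.mk_surjective (evalₐ J n x)
  refine ⟨s, mem_map_pow_of_evalₐ_eq_zero J hJ _ n ?_⟩
  rw [map_sub, ← hs, evalₐ_of, sub_self]

theorem evalₐ_eq_zero_of_mem (J : Ideal S) (x : AdicCompletion J S) (n : ℕ)
    (hx : x ∈ (J ^ n).map (algebraMap S (AdicCompletion J S))) : evalₐ J n x = 0 := by
  have h1 : (J ^ n).map (algebraMap S (AdicCompletion J S)) ≤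
      RingHom.ker (evalₐ J n : AdicCompletion J S →+* S ⧸ J ^ n) := by
    rw [Ideal.map_le_iff_le_comap]
    intro s hs
    rw [Ideal.mem_comap, RingHom.mem_ker]
    change evalₐ J n (algebraMap S _ s) = 0
    rw [AlgHom.commutes, Ideal.Quotient.algebraMap_eq, Ideal.Quotient.eq_zero_iff_mem]
    exact hs
  exact h1 hx

/-- The completion of a ring at a finitely generated ideal is complete. -/
theorem isAdicComplete_map (J : Ideal S) (hJ : J.FG) :
    IsAdicComplete (J.map (algebraMap S (AdicCompletion J S))) (AdicCompletion J S) := by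
  rw [IsAdicComplete.map_algebraMap_iff]
  exact AdicCompletion.isAdicComplete hJ

/-- Two ring maps out of the completion which are continuous and agree on the ring are equal. -/
theorem ringHom_ext (J : Ideal S) (hJ : J.FG) (I' : Ideal B) [hB : IsHausdorff I' B]
    (u v : AdicCompletion J S →+* B) (h : ∀ s, u (of J S s) = v (of J S s))
    (hu : ∀ s ∈ J, u (of J S s) ∈ I') : u = v := by
  have hle : ∀ (w : AdicCompletion J S →+* B), (∀ s ∈ J, w (of J S s) ∈ I') →
      ∀ (n : ℕ) (z : AdicCompletion J S), z ∈ (J ^ n).map (algebraMap S (AdicCompletion J S)) →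
      w z ∈ I' ^ n := by
    intro w hw n z hz
    have h1 : ((J ^ n).map (algebraMap S (AdicCompletion J S))).map w ≤ I' ^ n := by
      rw [Ideal.map_map, Ideal.map_pow]
      apply Ideal.pow_right_mono
      rw [Ideal.map_le_iff_le_comap]
      intro s hs
      exact hw s hs
    exact h1 (Ideal.mem_map_of_mem w hz)
  have hv : ∀ s ∈ J, v (of J S s) ∈ I' := fun s hs => by rw [← h]; exact hu s hs
  apply RingHom.ext
  intro x
  have h1 := hB.haus (u x - v x) (fun n => by
    rw [SModEq.zero, smul_eq_mul, Ideal.mul_top]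
    obtain ⟨s, hs⟩ := exists_sub_of_mem J hJ x n
    have h2 : u x - v x = u (x - of J S s) - v (x - of J S s) := by
      rw [map_sub, map_sub, h]; ring
    rw [h2]
    exact sub_mem (hle u hu n _ hs) (hle v hv n _ hs))
  exact sub_eq_zero.mp h1

end ext

end K26.Compl
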