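import Mathlib.RingTheory.KrullDimension.Basic
import Mathlib.RingTheory.KrullDimension.Field
import Mathlib.RingTheory.KrullDimension.Zero
import Mathlib.RingTheory.Ideal.GoingUp

/-!
Domains of Krull dimension one and integral extensions.
-/

set_option autoImplicit false
universe u v w

namespace K26.DimOne

theorem ringKrullDim_eq_one_iff {D : Type u} [CommRing D] [IsDomain D] :
    ringKrullDim D = 1 ↔ ¬ IsField D ∧ ∀ P : Ideal D, P ≠ ⊥ → P.IsPrime → P.IsMaximal := by
  constructor
  · intro h
    refine ⟨fun h' => zero_ne_one ((ringKrullDim_eq_zero_of_isField h') ▸ h), ?_⟩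
    exact Ring.krullDimLE_one_iff_of_noZeroDivisors.mp (Ring.krullDimLE_iff.mpr (by simp [h]))
  · rintro ⟨h1, h2⟩
    have h3 : Ring.KrullDimLE 1 D := Ring.krullDimLE_one_iff_of_noZeroDivisors.mpr h2
    have h4 : ringKrullDim D ≤ 1 := by
      have := Ring.krullDimLE_iff.mp h3
      simpa using this
    have h5 : ¬ ringKrullDim D ≤ 0 := by
      intro h
      have h6 : Ring.KrullDimLE 0 D := Ring.krullDimLE_iff.mpr (by simpa using h)
      exact h1 Ring.KrullDimLE.isField_of_isDomain
    exact le_antisymm h4 (Order.succ_le_of_lt (lt_of_not_ge h5))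

section

variable {D : Type u} {E : Type v} [CommRing D] [IsDomain D] [CommRing E] [IsDomain E]
  [Algebra D E] [Algebra.IsIntegral D E]

theorem ringKrullDim_eq_one_iff_of_isIntegral (hinj : Function.Injective (algebraMap D E)) :
    ringKrullDim D = 1 ↔ ringKrullDim E = 1 := by
  rw [ringKrullDim_eq_one_iff, ringKrullDim_eq_one_iff]
  have : FaithfulSMul D E := (faithfulSMul_iff_algebraMap_injective D E).mpr hinj
  have hfield : IsField D ↔ IsField E := Algebra.IsIntegral.isField_iff_isField hinj
  rw [hfield]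
  refine and_congr_right fun _ => ⟨fun h Q hQ hQp => ?_, fun h P hP hPp => ?_⟩
  · have h1 : Q.comap (algebraMap D E) ≠ ⊥ := fun h0 => hQ (Ideal.eq_bot_of_comap_eq_bot h0)
    exact Ideal.isMaximal_of_isIntegral_of_isMaximal_comap Q (h _ h1 inferInstance)
  · obtain ⟨Q, hQp, hQ⟩ := Ideal.exists_ideal_over_prime_of_isIntegral_of_isDomain (S := E) P
      (by rw [(RingHom.injective_iff_ker_eq_bot _).mp hinj]; exact bot_le)
    have h1 : Q ≠ ⊥ := by
      rintro rfl
      apply hP
      rw [← hQ]
      exact (RingHom.injective_iff_ker_eq_bot _).mp hinj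
    have h2 : Q.IsMaximal := h Q h1 hQp
    rw [← hQ]
    exact Ideal.isMaximal_comap_of_isIntegral_of_isMaximal Q

end

end K26.DimOne
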