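import Groth.Agent.AdicRing.K26.FinFree
import Groth.Agent.AdicRing.K26.DimOne
import Groth.Agent.AdicRing.K26.ComplVal
import Mathlib.RingTheory.Flat.TorsionFree
import Mathlib.RingTheory.LocalRing.Module
import Mathlib.RingTheory.PrincipalIdealDomain
import Mathlib.FieldTheory.IsAlgClosed.Basic

/-!
Finite domains over a complete valuation ring of height one; the integral closure in an algebraically
closed field has algebraically closed residue field.
-/

set_option autoImplicit false
universe u v w

namespace K26.FinDom

open AdicRing Polynomial IsLocalRing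

section

variable {R : Type u} [CommRing R] [IsDomain R] [ValuationRing R]
  {B : Type u} [CommRing B] [IsDomain B] [Algebra R B] [Module.Finite R B]

theorem free_of_injective (hinj : Function.Injective (algebraMap R B)) : Module.Free R B := by
  have htf₀ : Module.IsTorsionFree R B :=
    Module.isTorsionFree_iff_algebraMap_injective.mpr hinj
  have hflat : Module.Flat R B := by
    rw [Module.Flat.flat_iff_torsion_eq_bot_of_isBezout, ← Submodule.isTorsionFree_iff_torsion_eq_bot]
    exact htf₀
  exact Module.free_of_flat_of_isLocalRing

theorem isAdicComplete (I : Ideal R) [IsAdicComplete I R]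
    (hinj : Function.Injective (algebraMap R B)) : IsAdicComplete I B := by
  have := free_of_injective hinj
  exact Groth.Agent.S17864.isAdicComplete_of_finite_projective I B

end

/-- A height one valuation ring with a nonzero nonunit has dimension one. -/
theorem ringKrullDim_eq_one (R : Type u) [CommRing R] [IsDomain R] [ValuationRing R]
    [Ring.KrullDimLE 1 R] (t : R) (ht : t ≠ 0) (htu : ¬ IsUnit t) : ringKrullDim R = 1 := by
  rw [K26.DimOne.ringKrullDim_eq_one_iff]
  refine ⟨fun h => htu ?_, fun P hP hPp => Ideal.isMaximal_of_isPrime_of_ne_bot P hP⟩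
  obtain ⟨y, hy⟩ := h.mul_inv_cancel ht
  exact IsUnit.of_mul_eq_one _ hy

/-- The residue field of a local ring integrally closed in an algebraically closed field is
algebraically closed. -/
theorem isAlgClosed_residueField {V L : Type*} [CommRing V] [IsLocalRing V] [Field L] [IsAlgClosed L]
    [Algebra V L] (hinj : Function.Injective (algebraMap V L))
    (hint : ∀ x : L, IsIntegral V x → x ∈ (algebraMap V L).range) :
    IsAlgClosed (ResidueField V) := by
  apply IsAlgClosed.of_exists_root
  intro p hp hirr
  have hlift : p ∈ lifts (residue V) := by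
    rw [lifts_iff_coeff_lifts]
    intro n
    exact residue_surjective _
  obtain ⟨q, hq, hdeg, hqm⟩ := lifts_and_natDegree_eq_and_monic hlift hp
  have hdeg0 : (q.map (algebraMap V L)).degree ≠ 0 := by
    rw [hqm.degree_map]
    intro h0
    have h1 : q.natDegree = 0 := natDegree_eq_of_degree_eq_some h0
    rw [hdeg] at h1
    have h2 : p.degree = 0 := by
      rw [degree_eq_natDegree hp.ne_zero, h1]; rfl
    exact (degree_pos_of_irreducible hirr).ne' h2
  obtain ⟨α, hα⟩ := IsAlgClosed.exists_root _ hdeg0
  have hα' : eval₂ (algebraMap V L) α q = 0 := by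
    rw [← eval_map]; exact hα
  obtain ⟨a, rfl⟩ := hint α ⟨q, hqm, hα'⟩
  rw [eval₂_at_apply] at hα'
  have h3 : q.eval a = 0 := (map_eq_zero_iff _ hinj).mp hα'
  refine ⟨residue V a, ?_⟩
  rw [← hq, eval_map, eval₂_at_apply, h3, map_zero]

end K26.FinDom
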