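import Groth.Agent.AdicRing.K26.RPowB
import Groth.Agent.S17864
import Mathlib.RingTheory.Finiteness.ModuleFinitePresentation
import Mathlib.Algebra.Module.Projective
import Mathlib.LinearAlgebra.Pi

/-!
Finite projective algebras over a complete ring are topologically of finite presentation.
-/

set_option autoImplicit false
universe u v w

namespace K26.FinFree

open AdicRing

section precomplete

variable {R : Type u} [CommRing R] (I : Ideal R)

theorem map_mem_smul_top {M N : Type*} [AddCommGroup M] [Module R M] [AddCommGroup N] [Module R N]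
    (f : M →ₗ[R] N) {x : M} (J : Ideal R) (hx : x ∈ (J • ⊤ : Submodule R M)) :
    f x ∈ (J • ⊤ : Submodule R N) := by
  have h := Submodule.mem_map_of_mem (f := f) hx
  rw [Submodule.map_smul''] at h
  exact Submodule.smul_mono le_rfl le_top h

theorem isPrecomplete_prod (M N : Type*) [AddCommGroup M] [Module R M] [AddCommGroup N]
    [Module R N] [hM : IsPrecomplete I M] [hN : IsPrecomplete I N] : IsPrecomplete I (M × N) := by
  constructor
  intro f hf
  obtain ⟨L₁, h₁⟩ := hM.prec (f := fun n => (f n).1) (fun {m n} hmn => by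
    rw [SModEq.sub_mem]
    exact map_mem_smul_top (LinearMap.fst R M N) _ (SModEq.sub_mem.mp (hf hmn)))
  obtain ⟨L₂, h₂⟩ := hN.prec (f := fun n => (f n).2) (fun {m n} hmn => by
    rw [SModEq.sub_mem]
    exact map_mem_smul_top (LinearMap.snd R M N) _ (SModEq.sub_mem.mp (hf hmn)))
  refine ⟨(L₁, L₂), fun n => ?_⟩
  rw [SModEq.sub_mem]
  have h3 : f n - (L₁, L₂) = LinearMap.inl R M N ((f n).1 - L₁) +
      LinearMap.inr R M N ((f n).2 - L₂) := by
    ext <;> simp
  rw [h3]
  exact add_mem (map_mem_smul_top _ _ (SModEq.sub_mem.mp (h₁ n)))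
    (map_mem_smul_top _ _ (SModEq.sub_mem.mp (h₂ n)))

theorem isPrecomplete_pi {ι : Type*} [Finite ι] (M : Type*) [AddCommGroup M] [Module R M]
    [hM : IsPrecomplete I M] : IsPrecomplete I (ι → M) := by
  classical
  have := Fintype.ofFinite ι
  constructor
  intro f hf
  have h1 : ∀ i : ι, ∃ L : M, ∀ n, f n i ≡ L [SMOD (I ^ n • ⊤ : Submodule R M)] := by
    intro i
    refine hM.prec (f := fun n => f n i) (fun {m n} hmn => ?_)
    rw [SModEq.sub_mem]
    exact map_mem_smul_top (LinearMap.proj i : (ι → M) →ₗ[R] M) _ (SModEq.sub_mem.mp (hf hmn))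
  choose L hL using h1
  refine ⟨L, fun n => ?_⟩
  rw [SModEq.sub_mem]
  have h2 : f n - L = ∑ i, LinearMap.single R (fun _ : ι => M) i (f n i - L i) := by
    have h3 := (Finset.univ_sum_single (f n - L)).symm
    simpa only [LinearMap.coe_single, Pi.sub_apply] using h3
  rw [h2]
  exact Submodule.sum_mem _ (fun i _ => map_mem_smul_top _ _ (SModEq.sub_mem.mp (hL i n)))

end precomplete

/-- A finite projective algebra over a complete ring is topologically of finite presentation. -/
theorem topFinitePresentation (R : Type u) [CommRing R] (I : Ideal R) (hI : I.FG)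
    [IsAdicComplete I R] (B : Type u) [CommRing B] [Algebra R B] [Module.Finite R B]
    [Module.Projective R B] : TopFinitePresentation R I B := by
  classical
  have hB : IsAdicComplete I B := Groth.Agent.S17864.isAdicComplete_of_finite_projective I B
  have hB' : IsAdicComplete (I.map (algebraMap R B)) B := by
    rw [IsAdicComplete.map_algebraMap_iff]; exact hB
  have hfpm : Module.FinitePresentation R B := Module.finitePresentation_of_projective R B
  have hfp : Algebra.FinitePresentation R B := inferInstance
  obtain ⟨n, π, hπ, hker⟩ := hfp.out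
  obtain ⟨s, hs⟩ := Module.projective_lifting_property π.toLinearMap LinearMap.id hπ
  have hπs : ∀ b, π (s b) = b := fun b => LinearMap.congr_fun hs b
  obtain ⟨T, hT⟩ := hker
  let J : Ideal (MvPolynomial (Fin n) R) := I.map MvPolynomial.C
  let φ : RPow R I n →ₐ[R] B := K26.Compl.lift J (I.map (algebraMap R B)) π (by
    intro x hx
    have h1 : J.map (π : MvPolynomial (Fin n) R →+* B) ≤ I.map (algebraMap R B) := by
      rw [Ideal.map_map]
      have : (π : MvPolynomial (Fin n) R →+* B).comp MvPolynomial.C = algebraMap R B :=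
        π.comp_algebraMap
      rw [this]
    exact h1 (Ideal.mem_map_of_mem _ hx))
  have hφ : ∀ p, φ (algebraMap _ (RPow R I n) p) = π p := fun p => K26.Compl.lift_of _ _ _ _ p
  have hφs : Function.Surjective φ := fun b => by
    obtain ⟨p, rfl⟩ := hπ b
    exact ⟨_, hφ p⟩
  refine ⟨n, φ, hφs, ?_⟩
  -- every element is a combination of the generators plus an element of the image of the section
  have hcompl : IsAdicComplete I (RPow R I n) := K26.RPowB.isAdicComplete R I n hI
  let a : MvPolynomial (Fin n) R → RPow R I n := algebraMap _ _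
  let F : (T → RPow R I n) × B →ₗ[R] RPow R I n :=
    LinearMap.coprod
      (∑ g : T, (LinearMap.mulLeft R (a g.1)).comp (LinearMap.proj g : (T → RPow R I n) →ₗ[R] _))
      ((IsScalarTower.toAlgHom R (MvPolynomial (Fin n) R) (RPow R I n)).toLinearMap.comp s)
  have hF : ∀ q b, F (q, b) = (∑ g : T, a g.1 * q g) + a (s b) := by
    intro q b
    simp only [F, LinearMap.coprod_apply, LinearMap.sum_apply, LinearMap.comp_apply,
      LinearMap.proj_apply, LinearMap.mulLeft_apply]
    rfl
  have hFs : Function.Surjective F := by
    have h1 : IsPrecomplete I (T → RPow R I n) := isPrecomplete_pi I _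
    have h2 : IsPrecomplete I ((T → RPow R I n) × B) := isPrecomplete_prod I _ _
    apply surjective_of_mkQ_comp_surjective (I := I)
    intro y
    obtain ⟨x, rfl⟩ := Submodule.Quotient.mk_surjective _ y
    obtain ⟨p, hp⟩ := K26.RPowB.exists_sub_mem R I n hI x
    have h3 : p - s (π p) ∈ RingHom.ker π.toRingHom := by
      rw [RingHom.mem_ker]
      change π (p - s (π p)) = 0
      rw [map_sub, hπs, sub_self]
    rw [← hT] at h3
    obtain ⟨c, hc⟩ := Submodule.mem_span_finset'.mp h3
    refine ⟨(fun g => a (c g), π p), ?_⟩
    have h4 : F (fun g => a (c g), π p) = a p := by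
      rw [hF]
      have h5 : ∑ g : T, a g.1 * a (c g) = a (p - s (π p)) := by
        rw [← hc]
        simp only [a, map_sum, smul_eq_mul, map_mul]
        exact Finset.sum_congr rfl (fun g _ => mul_comm _ _)
      rw [h5]
      simp only [a, map_sub]
      ring
    change Submodule.Quotient.mk (F (fun g => a (c g), π p)) = _
    rw [h4, Submodule.Quotient.eq]
    have h6 : a p - x = -(x - a p) := by ring
    rw [h6]
    apply Submodule.neg_mem
    rw [Ideal.smul_top_eq_map, Submodule.restrictScalars_mem]
    exact hp
  have hker : RingHom.ker φ.toRingHom = Ideal.span (a '' (T : Set (MvPolynomial (Fin n) R))) := by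
    apply le_antisymm
    · intro x hx
      obtain ⟨⟨q, b⟩, rfl⟩ := hFs x
      rw [hF] at hx ⊢
      have hx' : φ ((∑ g : T, a g.1 * q g) + a (s b)) = 0 := hx
      have hg : ∀ g : T, φ (a g.1) = 0 := by
        intro g
        rw [hφ]
        have : (g : MvPolynomial (Fin n) R) ∈ RingHom.ker π.toRingHom := by
          rw [← hT]; exact Ideal.subset_span g.2
        exact this
      rw [map_add, map_sum, hφ, hπs] at hx'
      simp only [map_mul, hg, zero_mul, Finset.sum_const_zero, zero_add] at hx'
      rw [hx', map_zero]
      simp only [a, map_zero, add_zero]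
      exact Ideal.sum_mem _ (fun g _ => Ideal.mul_mem_right _ _
        (Ideal.subset_span ⟨g.1, g.2, rfl⟩))
    · rw [Ideal.span_le]
      rintro _ ⟨g, hg, rfl⟩
      have : g ∈ RingHom.ker π.toRingHom := by
        rw [← hT]; exact Ideal.subset_span hg
      change φ (a g) = 0
      rw [hφ]
      exact this
  rw [hker]
  exact ⟨T.image a, by rw [Finset.coe_image]⟩

end K26.FinFree
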