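import Groth.Prelude.Def_W4bk4boschfrg79
import Groth.Agent.AdicRing.K26.ComplVal
import Mathlib.RingTheory.Localization.BaseChange
import Mathlib.LinearAlgebra.TensorProduct.Basic
import Mathlib.RingTheory.IntegralClosure.IsIntegralClosure.Basic

/-!
The generic fibre `D ⊗[R] Frac R` of an `R`-algebra without `t`-torsion.
-/

set_option autoImplicit false
universe u v w

namespace K26.GenFib

open scoped TensorProduct
open AdicRing Polynomial

section

variable {R : Type u} [CommRing R] [IsDomain R] [ValuationRing R] [Ring.KrullDimLE 1 R]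
  (t : R)

theorem eq_zero_of_smul_eq_zero (htu : ¬ IsUnit t) {M : Type v} [AddCommGroup M]
    [Module R M] (hM : NoPowTorsion (Ideal.span {t}) M) (c : R) (hc : c ≠ 0) (x : M)
    (hx : c • x = 0) : x = 0 := by
  obtain ⟨n, a, ha⟩ := K26.ComplVal.exists_dvd_pow t htu c hc
  refine hM x n (fun b hb => ?_)
  rw [Ideal.span_singleton_pow, Ideal.mem_span_singleton] at hb
  obtain ⟨e, rfl⟩ := hb
  rw [ha, show c * a * e = (a * e) * c by ring, mul_smul, hx, smul_zero]

end

section

variable {R : Type u} [CommRing R] [IsDomain R] {D : Type v} [CommRing D] [Algebra R D]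

theorem injective_algebraMap (hD : ∀ (c : R) (x : D), c ≠ 0 → c • x = 0 → x = 0) :
    Function.Injective (algebraMap D (D ⊗[R] FractionRing R)) := by
  have hle : Algebra.algebraMapSubmonoid D (nonZeroDivisors R) ≤ nonZeroDivisors D := by
    rintro _ ⟨c, hc, rfl⟩
    rw [mem_nonZeroDivisors_iff_right]
    intro x hx
    apply hD c x (nonZeroDivisors.ne_zero hc)
    rw [Algebra.smul_def, mul_comm]
    exact hx
  exact IsLocalization.injective (D ⊗[R] FractionRing R) hle

theorem isUnit_algebraMap (c : R) (hc : c ≠ 0) :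
    IsUnit (algebraMap R (D ⊗[R] FractionRing R) c) := by
  have h : IsUnit (algebraMap R (FractionRing R) c) :=
    (IsUnit.mk0 _ ((map_ne_zero_iff _ (IsFractionRing.injective R _)).mpr hc))
  have h2 := h.map (Algebra.TensorProduct.includeRight : FractionRing R →ₐ[R] D ⊗[R] FractionRing R)
  rwa [AlgHom.commutes] at h2

theorem smul_def' (c : R) (x : D ⊗[R] FractionRing R) :
    c • x = algebraMap R (D ⊗[R] FractionRing R) c * x := Algebra.smul_def c x

theorem eq_of_smul_eq (c : R) (hc : c ≠ 0) (x y : D ⊗[R] FractionRing R)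
    (h : c • x = c • y) : x = y := by
  rw [smul_def', smul_def'] at h
  exact (isUnit_algebraMap c hc).mul_left_cancel h

theorem exists_smul_eq (y : D ⊗[R] FractionRing R) :
    ∃ c : R, c ≠ 0 ∧ ∃ d : D, c • y = algebraMap D (D ⊗[R] FractionRing R) d := by
  obtain ⟨⟨d, ⟨_, ⟨c, hc, rfl⟩⟩⟩, hd⟩ := IsLocalization.surj
    (Algebra.algebraMapSubmonoid D (nonZeroDivisors R)) y
  refine ⟨c, nonZeroDivisors.ne_zero hc, d, ?_⟩
  rw [smul_def', mul_comm, IsScalarTower.algebraMap_apply R D (D ⊗[R] FractionRing R)]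
  exact hd

end

/-- If `y * d = 1` with `y` integral over the subring `D`, then `d` is a unit of `D`. -/
theorem isUnit_of_isIntegral_of_mul_eq_one {D E : Type*} [CommRing D] [CommRing E] [Algebra D E]
    (hinj : Function.Injective (algebraMap D E)) (y : E) (hy : IsIntegral D y) (d : D)
    (hyd : y * algebraMap D E d = 1) : IsUnit d := by
  obtain ⟨p, hp, hpy⟩ := hy
  let _ : Invertible y := ⟨algebraMap D E d, by rw [mul_comm]; exact hyd, hyd⟩
  have h1 := (eval₂_reverse_eq_zero_iff (algebraMap D E) y p).mpr hpy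
  have h2 : ⅟y = algebraMap D E d := rfl
  rw [h2, eval₂_at_apply] at h1
  have h3 : p.reverse.eval d = 0 := (map_eq_zero_iff _ hinj).mp h1
  have h4 : d - 0 ∣ p.reverse.eval d - p.reverse.eval 0 := sub_dvd_eval_sub _ _ _
  rw [h3, ← coeff_zero_eq_eval_zero, coeff_zero_reverse, hp.leadingCoeff, sub_zero, zero_sub,
    dvd_neg] at h4
  exact isUnit_of_dvd_one h4

end K26.GenFib
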