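import Groth.Agent.AdicRing.K26.RPowB
import Groth.Agent.AdicRing.K26.DimOne
import Groth.Agent.AdicRing.K26.ComplVal
import Groth.Agent.S0544
import Mathlib.RingTheory.Jacobson.Ring
import Mathlib.RingTheory.KrullDimension.LocalRing

/-!
Points of dimension one: topologically finite type algebras over a complete valuation ring of
height one which are integral domains of dimension one.
-/

set_option autoImplicit false
universe u v w

namespace K26.RigPt

open AdicRing Polynomial IsLocalRing

/-- A field of finite type over a ring `R`, whose kernel in `R` is maximal, is integral over `R`. -/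
theorem isIntegral_of_finiteType_field {R : Type u} {F : Type v} [CommRing R] [Field F]
    [Algebra R F] [Algebra.FiniteType R F] (hker : (RingHom.ker (algebraMap R F)).IsMaximal) :
    Algebra.IsIntegral R F := by
  let m := RingHom.ker (algebraMap R F)
  let _ : Field (R ⧸ m) := Ideal.Quotient.field m
  let _ : Algebra (R ⧸ m) F := (Ideal.Quotient.lift m (algebraMap R F) (fun a ha => ha)).toAlgebra
  have : IsScalarTower R (R ⧸ m) F := IsScalarTower.of_algebraMap_eq (fun x => rfl)
  have : Algebra.FiniteType (R ⧸ m) F := Algebra.FiniteType.of_restrictScalars_finiteType R _ F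
  have h1 : Module.Finite (R ⧸ m) F := finite_of_finite_type_of_isJacobsonRing _ _
  have h2 : Module.Finite R (R ⧸ m) := inferInstance
  have h3 : Module.Finite R F := Module.Finite.trans (R ⧸ m) F
  infer_instance

section

variable {R : Type u} [CommRing R] {t : R} {B : Type v} [CommRing B] [Algebra R B]

/-- In a domain of dimension one, every topologically nilpotent element is nilpotent modulo
a nonzero element. -/
theorem exists_pow_mem_span [IsDomain B]
    (hprime : ∀ P : Ideal B, P ≠ ⊥ → P.IsPrime → P.IsMaximal)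
    (τ : B) (hjac : τ ∈ Ideal.jacobson (⊥ : Ideal B)) (x : B) (hx : x ≠ 0) :
    ∃ m : ℕ, x ∣ τ ^ m := by
  have h1 : τ ∈ (Ideal.span {x}).radical := by
    rw [Ideal.radical_eq_sInf, Submodule.mem_sInf]
    rintro P ⟨hxP, hP⟩
    have hne : P ≠ ⊥ := by
      rintro rfl
      rw [Ideal.span_singleton_le_iff_mem] at hxP
      exact hx hxP
    have hm := hprime P hne hP
    exact (Ideal.mem_sInf.mp hjac) ⟨bot_le, hm⟩
  obtain ⟨m, hm⟩ := h1
  exact ⟨m, Ideal.mem_span_singleton.mp hm⟩

/-- Separatedness: if some nonzero power of `τ` is a multiple of each nonzero element of the domain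
and `τ` is a nonzero element of the Jacobson radical, then the `τ`-adic topology is separated. -/
theorem isHausdorff_of_forall_dvd [IsDomain B]
    (hjac : algebraMap R B t ∈ Ideal.jacobson (⊥ : Ideal B)) (ht : algebraMap R B t ≠ 0)
    (hdvd : ∀ x : B, x ≠ 0 → ∃ m : ℕ, x ∣ (algebraMap R B t) ^ m) :
    IsHausdorff (Ideal.span {t}) B := by
  constructor
  intro x hx
  by_contra hx0
  obtain ⟨m, y, hy⟩ := hdvd x hx0
  have h1 := hx (m + 1)
  rw [SModEq.zero, Ideal.smul_top_eq_map, Submodule.restrictScalars_mem,
    Ideal.span_singleton_pow, Ideal.map_span, Set.image_singleton, map_pow,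
    Ideal.mem_span_singleton] at h1
  obtain ⟨z, hz⟩ := h1
  have h2 : (algebraMap R B t) ^ m * 1 = (algebraMap R B t) ^ m * (algebraMap R B t * (z * y)) := by
    rw [mul_one]
    conv_lhs => rw [hy, hz]
    ring
  have h3 : (1 : B) = algebraMap R B t * (z * y) := mul_left_cancel₀ (pow_ne_zero m ht) h2
  have h4 := (Ideal.mem_jacobson_bot.mp hjac) (-(z * y))
  rw [mul_neg, ← h3, neg_add_cancel] at h4
  exact absurd (isUnit_zero_iff.mp h4) zero_ne_one

end

section main

variable {R : Type u} [CommRing R] [IsDomain R] [ValuationRing R] [Ring.KrullDimLE 1 R]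
  {t : R} {B : Type u} [CommRing B] [Algebra R B]

omit [IsDomain R] [ValuationRing R] [Ring.KrullDimLE 1 R] in
theorem map_span_eq : (Ideal.span {t}).map (algebraMap R B) = Ideal.span {algebraMap R B t} := by
  rw [Ideal.map_span, Set.image_singleton]

omit [IsDomain R] [ValuationRing R] [Ring.KrullDimLE 1 R] in
theorem algebraMap_ne_zero [Nontrivial B] (hB : NoPowTorsion (Ideal.span {t}) B) :
    algebraMap R B t ≠ 0 := by
  intro h
  refine one_ne_zero (α := B) (hB 1 1 (fun a ha => ?_))
  rw [pow_one, Ideal.mem_span_singleton] at ha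
  obtain ⟨c, rfl⟩ := ha
  rw [Algebra.smul_def, map_mul, h, zero_mul, zero_mul]

omit [ValuationRing R] in
theorem injective_algebraMap [IsDomain B] (htB : algebraMap R B t ≠ 0)
    (hjac : algebraMap R B t ∈ Ideal.jacobson (⊥ : Ideal B)) :
    Function.Injective (algebraMap R B) := by
  rw [RingHom.injective_iff_ker_eq_bot]
  by_contra h
  have hp : (RingHom.ker (algebraMap R B)).IsPrime := RingHom.ker_isPrime _
  have hm : (RingHom.ker (algebraMap R B)).IsMaximal := Ideal.isMaximal_of_isPrime_of_ne_bot _ h
  -- then `R / ker` is a field and `t` is a unit in it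
  have h1 : t ∉ RingHom.ker (algebraMap R B) := htB
  obtain ⟨y, i, hi, hy⟩ := hm.exists_inv h1
  have h2 := congrArg (algebraMap R B) hy
  rw [map_add, map_mul, map_one, (RingHom.mem_ker).mp hi, add_zero] at h2
  have h3 := (Ideal.mem_jacobson_bot.mp hjac) (-(algebraMap R B y))
  rw [mul_neg, mul_comm, h2, neg_add_cancel] at h3
  exact absurd (isUnit_zero_iff.mp h3) zero_ne_one

omit [ValuationRing R] in
/-- `B / t B` is integral over `R` when `B` is a one-dimensional local domain, topologically of
finite type. -/
theorem isIntegral_quot [IsDomain B] [IsLocalRing B] (ht0 : t ≠ 0)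
    [Algebra.FiniteType R (B ⧸ (Ideal.span {t}).map (algebraMap R B))]
    (htB : algebraMap R B t ≠ 0)
    (hjac : algebraMap R B t ∈ Ideal.jacobson (⊥ : Ideal B))
    (hdim : ringKrullDim B = 1) :
    Algebra.IsIntegral R (B ⧸ (Ideal.span {t}).map (algebraMap R B)) := by
  have hprime := (K26.DimOne.ringKrullDim_eq_one_iff.mp hdim).2
  have htm : algebraMap R B t ∈ maximalIdeal B := by
    rw [IsLocalRing.jacobson_eq_maximalIdeal ⊥ bot_ne_top] at hjac
    exact hjac
  have hrad : maximalIdeal B ≤ ((Ideal.span {t}).map (algebraMap R B)).radical := by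
    rw [map_span_eq]
    exact (ringKrullDim_eq_one_iff_of_isLocalRing_isDomain.mp hdim).2 _ htB
  have hle : (Ideal.span {t}).map (algebraMap R B) ≤ maximalIdeal B := by
    rw [map_span_eq, Ideal.span_singleton_le_iff_mem]
    exact htm
  -- the residue field is integral over R
  let _ : Field (B ⧸ maximalIdeal B) := Ideal.Quotient.field _
  have hft : Algebra.FiniteType R (B ⧸ maximalIdeal B) :=
    Algebra.FiniteType.of_surjective (Ideal.Quotient.factorₐ R hle)
      (Ideal.Quotient.factor_surjective hle)
  have hker : (RingHom.ker (algebraMap R (B ⧸ maximalIdeal B))).IsMaximal := by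
    have hp : (RingHom.ker (algebraMap R (B ⧸ maximalIdeal B))).IsPrime := RingHom.ker_isPrime _
    apply Ideal.isMaximal_of_isPrime_of_ne_bot
    intro h
    have h1 : t ∈ RingHom.ker (algebraMap R (B ⧸ maximalIdeal B)) := by
      rw [RingHom.mem_ker, IsScalarTower.algebraMap_apply R B (B ⧸ maximalIdeal B)]
      exact Ideal.Quotient.eq_zero_iff_mem.mpr htm
    rw [h] at h1
    exact ht0 (by simpa using h1)
  have hint : Algebra.IsIntegral R (B ⧸ maximalIdeal B) := isIntegral_of_finiteType_field hker
  refine ⟨fun x => ?_⟩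
  obtain ⟨b, rfl⟩ := Ideal.Quotient.mk_surjective x
  obtain ⟨p, hp, hpb⟩ := hint.isIntegral (Ideal.Quotient.mk (maximalIdeal B) b)
  have h1 : aeval b p ∈ maximalIdeal B := by
    rw [← Ideal.Quotient.eq_zero_iff_mem]
    rw [← aeval_def] at hpb
    have h2 := aeval_algHom_apply (Ideal.Quotient.mkₐ R (maximalIdeal B)) b p
    rw [Ideal.Quotient.mkₐ_eq_mk] at h2
    rw [← h2]
    exact hpb
  obtain ⟨N, hN⟩ := hrad h1
  refine ⟨p ^ N, hp.pow N, ?_⟩
  rw [← aeval_def]
  have h3 := aeval_algHom_apply (Ideal.Quotient.mkₐ R ((Ideal.span {t}).map (algebraMap R B)))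
    b (p ^ N)
  rw [Ideal.Quotient.mkₐ_eq_mk] at h3
  rw [h3, Ideal.Quotient.eq_zero_iff_mem, map_pow]
  exact hN

variable (t) in
/-- **Finiteness of rig-points**: a quotient of a ring of restricted power series over a complete
valuation ring of height one which is a local domain of dimension one in which `t ≠ 0`, is finite
over the base. -/
theorem moduleFinite (ht0 : t ≠ 0) [IsAdicComplete (Ideal.span {t}) R] [IsDomain B] [IsLocalRing B]
    {n : ℕ} (φ : RPow R (Ideal.span {t}) n →ₐ[R] B) (hφ : Function.Surjective φ)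
    (htB : algebraMap R B t ≠ 0) (hdim : ringKrullDim B = 1) :
    Module.Finite R B := by
  have hI : (Ideal.span {t}).FG := ⟨{t}, by simp⟩
  have hjac : algebraMap R B t ∈ Ideal.jacobson (⊥ : Ideal B) :=
    K26.RPowB.map_le_jacobson φ hφ hI (Ideal.mem_map_of_mem _ (Ideal.mem_span_singleton_self t))
  have hprime := (K26.DimOne.ringKrullDim_eq_one_iff.mp hdim).2
  have hH : IsHausdorff (Ideal.span {t}) B :=
    isHausdorff_of_forall_dvd hjac htB (exists_pow_mem_span hprime _ hjac)
  have hft := K26.RPowB.finiteType_quot φ hφ hI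
  have hint := isIntegral_quot (B := B) ht0 htB hjac hdim
  have hfin : Module.Finite R (B ⧸ (Ideal.span {t}).map (algebraMap R B)) :=
    Algebra.IsIntegral.finite
  have hfin2 : Module.Finite R (B ⧸ (Ideal.span {t} • ⊤ : Submodule R B)) := by
    have e : (Ideal.span {t} • ⊤ : Submodule R B) =
        ((Ideal.span {t}).map (algebraMap R B)).restrictScalars R := Ideal.smul_top_eq_map _
    rw [e]
    exact hfin
  exact Groth.Agent.S0544.result R (Ideal.span {t}) B hfin2

end main

end K26.RigPt
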