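import Groth.Agent.AdicRing.K26.Content
import Groth.Agent.AdicRing.K26.RigPt
import Mathlib.RingTheory.NoetherNormalization
import Mathlib.RingTheory.Polynomial.ScaleRoots
import Mathlib.RingTheory.MvPolynomial.Basic

/-!
A topologically finite type domain over a complete valuation ring of height one in which every nonzero
element divides a power of `t` (i.e. whose generic fibre is a field) is finite over the base.
-/

set_option autoImplicit false
universe u v w

namespace K26.GenMax

open AdicRing IsLocalRing Polynomial K26.Content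

section aux

variable {R : Type u} [CommRing R] [IsDomain R] [ValuationRing R]

/-- Elements of `𝔪_R B` are multiples of elements of `𝔪_R`. -/
theorem exists_dvd_of_mem_map {B : Type v} [CommRing B] [Algebra R B] (y : B)
    (hy : y ∈ (maximalIdeal R).map (algebraMap R B)) :
    ∃ r ∈ maximalIdeal R, algebraMap R B r ∣ y := by
  induction hy using Submodule.span_induction with
  | mem x hx =>
    obtain ⟨r, hr, rfl⟩ := hx
    exact ⟨r, hr, dvd_rfl⟩
  | zero => exact ⟨0, zero_mem _, dvd_zero _⟩
  | add x y _ _ hx hy =>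
    obtain ⟨r, hr, hx⟩ := hx
    obtain ⟨s, hs, hy⟩ := hy
    rcases ValuationRing.dvd_total r s with h | h
    · exact ⟨r, hr, dvd_add hx ((_root_.map_dvd _ h).trans hy)⟩
    · exact ⟨s, hs, dvd_add ((_root_.map_dvd _ h).trans hx) hy⟩
  | smul a x _ hx =>
    obtain ⟨r, hr, hx⟩ := hx
    exact ⟨r, hr, hx.mul_left a⟩

theorem exists_pow_mem_of_mem_map [Ring.KrullDimLE 1 R] (t : R) (ht : t ≠ 0)
    {B : Type v} [CommRing B] [Algebra R B] (y : B)
    (hy : y ∈ (maximalIdeal R).map (algebraMap R B)) :
    ∃ N : ℕ, y ^ N ∈ (Ideal.span {t}).map (algebraMap R B) := by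
  obtain ⟨r, hr, hry⟩ := exists_dvd_of_mem_map y hy
  obtain ⟨N, hN⟩ := K26.ComplVal.exists_dvd_pow r ((mem_maximalIdeal _).mp hr) t ht
  refine ⟨N, ?_⟩
  rw [map_span_one, Ideal.mem_span_singleton]
  have h1 : algebraMap R B t ∣ algebraMap R B (r ^ N) := _root_.map_dvd _ hN
  rw [map_pow] at h1
  exact h1.trans (pow_dvd_pow_of_dvd hry N)

end aux

section zerovar

/-- Restricted power series in zero variables are finite over the base. -/
theorem moduleFinite_rPow_zero (R : Type u) [CommRing R] (I : Ideal R) (hI : I.FG)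
    [IsAdicComplete I R] : Module.Finite R (RPow R I 0) := by
  have h1 : IsAdicComplete I (RPow R I 0) := K26.RPowB.isAdicComplete R I 0 hI
  have h2 : Function.Surjective (Algebra.linearMap R (RPow R I 0)) := by
    apply surjective_of_mkQ_comp_surjective (I := I)
    intro y
    obtain ⟨x, rfl⟩ := Submodule.Quotient.mk_surjective _ y
    obtain ⟨p, hp⟩ := K26.RPowB.exists_sub_mem R I 0 hI x
    rw [MvPolynomial.eq_C_of_isEmpty p] at hp
    refine ⟨p.coeff 0, ?_⟩
    change Submodule.Quotient.mk (algebraMap R (RPow R I 0) (p.coeff 0)) = _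
    rw [Submodule.Quotient.eq]
    have h6 : algebraMap R (RPow R I 0) (p.coeff 0) - x =
      -(x - algebraMap R (RPow R I 0) (p.coeff 0)) := by ring
    rw [h6]
    apply Submodule.neg_mem
    rw [Ideal.smul_top_eq_map, Submodule.restrictScalars_mem]
    exact hp
  exact Module.Finite.of_surjective _ h2

end zerovar

section main

variable {R : Type u} [CommRing R] [IsDomain R] [ValuationRing R] [Ring.KrullDimLE 1 R]

/-- Finiteness over a restricted power series ring, from finiteness of the special fibre over a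
polynomial ring over the residue field. -/
theorem moduleFinite_of_special (t : R) (ht : t ≠ 0)
    (hle : Ideal.span {t} ≤ maximalIdeal R)
    {B : Type u} [CommRing B] [Algebra R B] [IsHausdorff (Ideal.span {t}) B]
    (hft : Algebra.FiniteType R (B ⧸ (Ideal.span {t}).map (algebraMap R B)))
    {s : ℕ} [Algebra (RPow R (Ideal.span {t}) s) B]
    [IsScalarTower R (RPow R (Ideal.span {t}) s) B]
    (g : MvPolynomial (Fin s) (R ⧸ maximalIdeal R) →+*
      B ⧸ (maximalIdeal R).map (algebraMap R B)) (hg : g.IsIntegral)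
    (hcomp : ∀ x : RPow R (Ideal.span {t}) s,
      Ideal.Quotient.mk ((maximalIdeal R).map (algebraMap R B))
        (algebraMap (RPow R (Ideal.span {t}) s) B x) = g (red (Ideal.span {t}) hle s x)) :
    Module.Finite (RPow R (Ideal.span {t}) s) B := by
  have hI : (Ideal.span {t}).FG := ⟨{t}, by simp⟩
  have hcompl := K26.RPowB.isAdicComplete_map R (Ideal.span {t}) s hI
  have hH : IsHausdorff ((Ideal.span {t}).map (algebraMap R (RPow R (Ideal.span {t}) s))) B := by
    rw [IsHausdorff.map_algebraMap_iff]; infer_instance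
  have hft2 : Algebra.FiniteType (RPow R (Ideal.span {t}) s)
      (B ⧸ (Ideal.span {t}).map (algebraMap R B)) :=
    Algebra.FiniteType.of_restrictScalars_finiteType R _ _
  have hint : Algebra.IsIntegral (RPow R (Ideal.span {t}) s)
      (B ⧸ (Ideal.span {t}).map (algebraMap R B)) := by
    refine ⟨fun x => ?_⟩
    obtain ⟨b, rfl⟩ := Ideal.Quotient.mk_surjective x
    obtain ⟨p, hp, hpb⟩ := hg (Ideal.Quotient.mk _ b)
    -- lift the polynomial
    have hlift : p ∈ lifts (red (Ideal.span {t}) hle s : RPow R (Ideal.span {t}) s →+* _) := by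
      rw [lifts_iff_coeff_lifts]
      intro k
      exact red_surjective (Ideal.span {t}) hle s _
    obtain ⟨q, hq, -, hqm⟩ := lifts_and_natDegree_eq_and_monic hlift hp
    have h1 : aeval b q ∈ (maximalIdeal R).map (algebraMap R B) := by
      rw [← Ideal.Quotient.eq_zero_iff_mem, aeval_def, hom_eval₂]
      have h2 : (Ideal.Quotient.mk ((maximalIdeal R).map (algebraMap R B))).comp
          (algebraMap (RPow R (Ideal.span {t}) s) B) =
          g.comp (red (Ideal.span {t}) hle s : RPow R (Ideal.span {t}) s →+* _) := by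
        apply RingHom.ext
        intro x
        exact hcomp x
      rw [h2, ← eval₂_map, hq]
      exact hpb
    obtain ⟨N, hN⟩ := exists_pow_mem_of_mem_map t ht _ h1
    refine ⟨q ^ N, hqm.pow N, ?_⟩
    rw [← aeval_def]
    have h3 := aeval_algHom_apply (Ideal.Quotient.mkₐ (RPow R (Ideal.span {t}) s)
      ((Ideal.span {t}).map (algebraMap R B))) b (q ^ N)
    rw [Ideal.Quotient.mkₐ_eq_mk] at h3
    rw [h3, Ideal.Quotient.eq_zero_iff_mem, map_pow]
    exact hN
  have hfin : Module.Finite (RPow R (Ideal.span {t}) s)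
      (B ⧸ (Ideal.span {t}).map (algebraMap R B)) := Algebra.IsIntegral.finite
  have hfin2 : Module.Finite (RPow R (Ideal.span {t}) s)
      (B ⧸ ((Ideal.span {t}).map (algebraMap R (RPow R (Ideal.span {t}) s)) • ⊤ :
        Submodule (RPow R (Ideal.span {t}) s) B)) := by
    have e : ((Ideal.span {t}).map (algebraMap R (RPow R (Ideal.span {t}) s)) • ⊤ :
        Submodule (RPow R (Ideal.span {t}) s) B) =
        ((Ideal.span {t}).map (algebraMap R B)).restrictScalars (RPow R (Ideal.span {t}) s) := by
      rw [Ideal.smul_top_eq_map, Ideal.map_map, ← IsScalarTower.algebraMap_eq]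
    rw [e]
    exact hfin
  exact Groth.Agent.S0544.result _ _ B hfin2

/-- Evaluation at zero of restricted power series. -/
noncomputable def ev0 (I : Ideal R) [IsAdicComplete I R] (s : ℕ) : RPow R I s →ₐ[R] R :=
  haveI : IsAdicComplete (I.map (algebraMap R R)) R := by
    rw [IsAdicComplete.map_algebraMap_iff]; infer_instance
  rlift I (MvPolynomial.aeval (fun _ : Fin s => (0 : R)))

omit [IsDomain R] [ValuationRing R] [Ring.KrullDimLE 1 R] in
theorem ev0_X (I : Ideal R) [IsAdicComplete I R] (s : ℕ) (i : Fin s) :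
    ev0 I s (algebraMap (MvPolynomial (Fin s) R) (RPow R I s) (MvPolynomial.X i)) = 0 := by
  have : IsAdicComplete (I.map (algebraMap R R)) R := by
    rw [IsAdicComplete.map_algebraMap_iff]; infer_instance
  refine (rlift_algebraMap I _ _).trans ?_
  rw [MvPolynomial.aeval_X]

omit [ValuationRing R] [Ring.KrullDimLE 1 R] in
/-- A finite injective extension `S = R⟨Y_1..Y_s⟩ → B` such that each nonzero element of `B` divides
a power of `t` can only exist for `s = 0`. -/
theorem eq_zero_of_forall_dvd (t : R) (ht : t ≠ 0) (I : Ideal R) [IsAdicComplete I R] {s : ℕ}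
    {B : Type u} [CommRing B] [IsDomain B] [Algebra R B] [Algebra (RPow R I s) B]
    [IsScalarTower R (RPow R I s) B] [Algebra.IsIntegral (RPow R I s) B]
    (hinj : Function.Injective (algebraMap (RPow R I s) B))
    (hX : ∀ i : Fin s, algebraMap (MvPolynomial (Fin s) R) (RPow R I s) (MvPolynomial.X i) ≠ 0)
    (hdvd : ∀ x : B, x ≠ 0 → ∃ m : ℕ, x ∣ (algebraMap R B t) ^ m) : s = 0 := by
  by_contra hs
  let i : Fin s := ⟨0, Nat.pos_of_ne_zero hs⟩
  let X0 : RPow R I s := algebraMap (MvPolynomial (Fin s) R) (RPow R I s) (MvPolynomial.X i)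
  have hy : algebraMap (RPow R I s) B X0 ≠ 0 := (map_ne_zero_iff _ hinj).mpr (hX i)
  obtain ⟨m, z, hz⟩ := hdvd _ hy
  obtain ⟨p, hp, hpz⟩ := Algebra.IsIntegral.isIntegral (R := RPow R I s) z
  rw [← aeval_def] at hpz
  have h1 := scaleRoots_aeval_eq_zero (r := X0) hpz
  have h2 : algebraMap (RPow R I s) B X0 * z =
      algebraMap (RPow R I s) B ((algebraMap R (RPow R I s) t) ^ m) := by
    rw [← hz, map_pow, ← IsScalarTower.algebraMap_apply]
  rw [h2, aeval_algebraMap_apply_eq_algebraMap_eval] at h1
  have h3 : (scaleRoots p X0).eval ((algebraMap R (RPow R I s) t) ^ m) = 0 :=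
    (map_eq_zero_iff _ hinj).mp h1
  have h4 := congrArg (ev0 I s : RPow R I s →+* R) h3
  rw [← eval₂_at_apply, ← eval_map, map_scaleRoots, map_zero] at h4
  · have h5 : (ev0 I s : RPow R I s →+* R) X0 = 0 := ev0_X I s i
    have h6 : (ev0 I s : RPow R I s →+* R) ((algebraMap R (RPow R I s) t) ^ m) = t ^ m := by
      rw [map_pow]
      congr 1
      exact (ev0 I s).commutes t
    rw [h5, h6, scaleRoots_zero, eval_smul, eval_pow, eval_X, smul_eq_mul,
      (hp.map _).leadingCoeff, one_mul] at h4
    exact pow_ne_zero _ (pow_ne_zero _ ht) h4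
  · rw [hp.leadingCoeff, map_one]
    exact one_ne_zero

theorem moduleFinite_of_forall_dvd (t : R) (ht : t ≠ 0) [IsAdicComplete (Ideal.span {t}) R]
    {B : Type u} [CommRing B] [IsDomain B] [Algebra R B] {n : ℕ}
    (φ : RPow R (Ideal.span {t}) n →ₐ[R] B) (hφ : Function.Surjective φ)
    (htB : algebraMap R B t ≠ 0)
    (hdvd : ∀ x : B, x ≠ 0 → ∃ m : ℕ, x ∣ (algebraMap R B t) ^ m) : Module.Finite R B := by
  classical
  have htu : ¬ IsUnit t := K26.ComplVal.not_isUnit_of_isAdicComplete t
  have hI : (Ideal.span {t}).FG := ⟨{t}, by simp⟩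
  have hle : Ideal.span {t} ≤ maximalIdeal R := by
    rw [Ideal.span_singleton_le_iff_mem]; exact (mem_maximalIdeal _).mpr htu
  have hjac : algebraMap R B t ∈ Ideal.jacobson (⊥ : Ideal B) :=
    K26.RPowB.map_le_jacobson φ hφ hI (Ideal.mem_map_of_mem _ (Ideal.mem_span_singleton_self t))
  have hH : IsHausdorff (Ideal.span {t}) B :=
    K26.RigPt.isHausdorff_of_forall_dvd hjac htB hdvd
  have hP : IsPrecomplete (Ideal.span {t}) B := K26.RPowB.isPrecomplete φ hφ hI
  have hC : IsAdicComplete (Ideal.span {t}) B := { }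
  have hC' : IsAdicComplete ((Ideal.span {t}).map (algebraMap R B)) B := by
    rw [IsAdicComplete.map_algebraMap_iff]; exact hC
  have hinj : Function.Injective (algebraMap R B) := K26.RigPt.injective_algebraMap htB hjac
  have hft := K26.RPowB.finiteType_quot φ hφ hI
  have htnu : ¬ IsUnit (algebraMap R B t) := by
    intro hu
    have h1 := Ideal.mem_jacobson_bot.mp hjac (-(hu.unit⁻¹ : Bˣ))
    rw [mul_neg, IsUnit.mul_val_inv, neg_add_cancel] at h1
    exact absurd (isUnit_zero_iff.mp h1) zero_ne_one
  have hQ : (maximalIdeal R).map (algebraMap R B) ≠ ⊤ := by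
    intro htop
    obtain ⟨N, hN⟩ := exists_pow_mem_of_mem_map t ht (1 : B) (by rw [htop]; trivial)
    rw [one_pow, map_span_one, Ideal.mem_span_singleton] at hN
    exact htnu (isUnit_of_dvd_one hN)
  have hnt : Nontrivial (B ⧸ (maximalIdeal R).map (algebraMap R B)) :=
    Ideal.Quotient.nontrivial_iff.mpr hQ
  let _ : Field (R ⧸ maximalIdeal R) := Ideal.Quotient.field _
  let _ : Algebra (R ⧸ maximalIdeal R) (B ⧸ (maximalIdeal R).map (algebraMap R B)) :=
    (Ideal.Quotient.lift (maximalIdeal R)
      (algebraMap R (B ⧸ (maximalIdeal R).map (algebraMap R B))) (by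
        intro a ha
        rw [IsScalarTower.algebraMap_apply R B]
        exact Ideal.Quotient.eq_zero_iff_mem.mpr (Ideal.mem_map_of_mem _ ha))).toAlgebra
  have hst : IsScalarTower R (R ⧸ maximalIdeal R)
      (B ⧸ (maximalIdeal R).map (algebraMap R B)) := IsScalarTower.of_algebraMap_eq (fun x => rfl)
  have hle2 : (Ideal.span {t}).map (algebraMap R B) ≤ (maximalIdeal R).map (algebraMap R B) :=
    Ideal.map_mono hle
  have hft2 : Algebra.FiniteType R (B ⧸ (maximalIdeal R).map (algebraMap R B)) :=
    Algebra.FiniteType.of_surjective (Ideal.Quotient.factorₐ R hle2)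
      (Ideal.Quotient.factor_surjective hle2)
  have hft3 : Algebra.FiniteType (R ⧸ maximalIdeal R)
      (B ⧸ (maximalIdeal R).map (algebraMap R B)) :=
    Algebra.FiniteType.of_restrictScalars_finiteType R _ _
  obtain ⟨s, g, hginj, hgint⟩ := exists_integral_inj_algHom_of_fg (R ⧸ maximalIdeal R)
    (B ⧸ (maximalIdeal R).map (algebraMap R B))
  have hb : ∀ i : Fin s, ∃ b : B, Ideal.Quotient.mk ((maximalIdeal R).map (algebraMap R B)) b =
      g (MvPolynomial.X i) := fun i => Ideal.Quotient.mk_surjective _
  choose b hb using hb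
  let ψ : RPow R (Ideal.span {t}) s →ₐ[R] B := rlift (Ideal.span {t}) (MvPolynomial.aeval b)
  have hψ : ∀ p : MvPolynomial (Fin s) R, ψ (algebraMap _ _ p) = MvPolynomial.aeval b p :=
    fun p => rlift_algebraMap _ _ p
  let _ : Algebra (RPow R (Ideal.span {t}) s) B := ψ.toRingHom.toAlgebra
  have hst2 : IsScalarTower R (RPow R (Ideal.span {t}) s) B :=
    IsScalarTower.of_algebraMap_eq (fun x => (ψ.commutes x).symm)
  have hcomp : ∀ x : RPow R (Ideal.span {t}) s,
      Ideal.Quotient.mk ((maximalIdeal R).map (algebraMap R B))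
        (algebraMap (RPow R (Ideal.span {t}) s) B x) =
      (g : _ →+* _) (red (Ideal.span {t}) hle s x) := by
    have h1 : (Ideal.Quotient.mk ((maximalIdeal R).map (algebraMap R B))).comp
        (ψ : RPow R (Ideal.span {t}) s →+* B) =
        ((g : _ →+* _) : MvPolynomial (Fin s) (R ⧸ maximalIdeal R) →+* _).comp
        (red (Ideal.span {t}) hle s : RPow R (Ideal.span {t}) s →+* _) := by
      have hpoly : ∀ p : MvPolynomial (Fin s) R,
          Ideal.Quotient.mk ((maximalIdeal R).map (algebraMap R B)) (ψ (algebraMap _ _ p)) =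
          g (red (Ideal.span {t}) hle s (algebraMap _ _ p)) := by
        intro p
        rw [hψ, red_algebraMap]
        have h2 : ((Ideal.Quotient.mk ((maximalIdeal R).map (algebraMap R B))).comp
            ((MvPolynomial.aeval b : MvPolynomial (Fin s) R →ₐ[R] B) :
              MvPolynomial (Fin s) R →+* B)) =
            ((g : _ →+* _) : MvPolynomial (Fin s) (R ⧸ maximalIdeal R) →+* _).comp
            (MvPolynomial.map (algebraMap R (R ⧸ maximalIdeal R))) := by
          apply MvPolynomial.ringHom_ext
          · intro r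
            simp only [RingHom.comp_apply, RingHom.coe_coe, MvPolynomial.aeval_C,
              MvPolynomial.map_C]
            have h3 := g.commutes (algebraMap R (R ⧸ maximalIdeal R) r)
            rw [MvPolynomial.algebraMap_eq] at h3
            rw [h3]
            rfl
          · intro i
            simp only [RingHom.comp_apply, RingHom.coe_coe, MvPolynomial.aeval_X,
              MvPolynomial.map_X]
            exact hb i
        exact RingHom.congr_fun h2 p
      apply K26.Compl.ringHom_ext _ (hI.map _) (⊥ : Ideal _)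
      · intro p
        exact hpoly p
      · intro p hp
        have h2 : (Ideal.Quotient.mk ((maximalIdeal R).map (algebraMap R B))) (ψ (algebraMap _ _ p))
            = 0 := by
          rw [Ideal.Quotient.eq_zero_iff_mem, hψ]
          exact hle2 (map_C_le (Ideal.span {t}) (MvPolynomial.aeval b) p hp)
        exact h2
    intro x
    exact RingHom.congr_fun h1 x
  have hfin : Module.Finite (RPow R (Ideal.span {t}) s) B :=
    moduleFinite_of_special t ht hle hft (g : _ →+* _) hgint hcomp
  have hψinj : Function.Injective (algebraMap (RPow R (Ideal.span {t}) s) B) := by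
    rw [injective_iff_map_eq_zero]
    intro x hx
    by_contra hx0
    obtain ⟨a, x', ha, hxx', hred⟩ := exists_content t ht hle x hx0
    rw [hxx', map_mul, ← IsScalarTower.algebraMap_apply] at hx
    have h1 : algebraMap (RPow R (Ideal.span {t}) s) B x' = 0 :=
      (mul_eq_zero.mp hx).resolve_left ((map_ne_zero_iff _ hinj).mpr ha)
    have h2 := hcomp x'
    rw [h1, map_zero] at h2
    exact hred ((map_eq_zero_iff _ hginj).mp h2.symm)
  have hs : s = 0 := by
    refine eq_zero_of_forall_dvd t ht (Ideal.span {t}) hψinj (fun i h0 => ?_) hdvd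
    have h1 := red_algebraMap (Ideal.span {t}) hle s (MvPolynomial.X i)
    rw [h0, map_zero, MvPolynomial.map_X] at h1
    exact MvPolynomial.X_ne_zero i h1.symm
  subst hs
  have h0 : Module.Finite R (RPow R (Ideal.span {t}) 0) :=
    moduleFinite_rPow_zero R _ hI
  exact Module.Finite.trans (RPow R (Ideal.span {t}) 0) B

end main

end K26.GenMax
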