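import Groth.Agent.AdicRing.K26.RigPt
import Groth.Agent.AdicRing.K26.FinDom
import Mathlib.FieldTheory.IsAlgClosed.AlgebraicClosure

/-!
Lifting of closed points of the special fibre: over a complete valuation ring of height one, a tuple of
elements of an algebraic extension of the residue field lifts to a finite domain over the base.
-/

set_option autoImplicit false
universe u v w

namespace K26.LiftPt

open AdicRing IsLocalRing

/-- Two algebraic-type extensions of the residue field: if `F` is a field integral over the local
ring `R` and `κ` an algebraically closed field over `R`, both with `R → F`, `R → κ` killing the maximal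
ideal, then `F` embeds in `κ` over `R`. -/
theorem exists_algHom {R : Type u} [CommRing R] [IsLocalRing R] {F : Type v} [Field F] [Algebra R F]
    [Algebra.IsIntegral R F] (hF : ∀ r ∈ maximalIdeal R, algebraMap R F r = 0)
    {κ : Type w} [Field κ] [IsAlgClosed κ] [Algebra R κ]
    (hκ : ∀ r ∈ maximalIdeal R, algebraMap R κ r = 0) : Nonempty (F →ₐ[R] κ) := by
  let _ : Field (R ⧸ maximalIdeal R) := Ideal.Quotient.field _
  let _ : Algebra (R ⧸ maximalIdeal R) F :=
    (Ideal.Quotient.lift (maximalIdeal R) (algebraMap R F) hF).toAlgebra
  let _ : Algebra (R ⧸ maximalIdeal R) κ :=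
    (Ideal.Quotient.lift (maximalIdeal R) (algebraMap R κ) hκ).toAlgebra
  have h1 : IsScalarTower R (R ⧸ maximalIdeal R) F := IsScalarTower.of_algebraMap_eq (fun x => rfl)
  have h2 : IsScalarTower R (R ⧸ maximalIdeal R) κ := IsScalarTower.of_algebraMap_eq (fun x => rfl)
  have h3 : Algebra.IsIntegral (R ⧸ maximalIdeal R) F :=
    ⟨fun x => (Algebra.IsIntegral.isIntegral (R := R) x).tower_top⟩
  let f : F →ₐ[R ⧸ maximalIdeal R] κ := IsAlgClosed.lift
  exact ⟨f.restrictScalars R⟩

variable {R : Type u} [CommRing R] [IsDomain R] [ValuationRing R] [Ring.KrullDimLE 1 R]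

theorem exists_lift (t : R) (ht : t ≠ 0) [IsAdicComplete (Ideal.span {t}) R]
    {F : Type v} [Field F] [Algebra R F] [Algebra.IsIntegral R F]
    (hF : ∀ r ∈ maximalIdeal R, algebraMap R F r = 0) {n : ℕ} (x : Fin n → F) :
    ∃ (V : Type u) (_ : CommRing V) (_ : IsDomain V) (_ : Algebra R V)
      (g : MvPolynomial (Fin n) R →ₐ[R] V), Function.Surjective g ∧ Module.Finite R V ∧
      Function.Injective (algebraMap R V) ∧
      ∀ (f : MvPolynomial (Fin n) R) (v : V), g f = algebraMap R V t * v →
        MvPolynomial.aeval x f = 0 := by
  classical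
  have hH : HenselianLocalRing R := K26.ComplVal.henselianLocalRing t ht
  have htu : ¬ IsUnit t := K26.ComplVal.not_isUnit_of_isAdicComplete t
  let L := AlgebraicClosure (FractionRing R)
  have hinjL : Function.Injective (algebraMap R L) := by
    rw [IsScalarTower.algebraMap_eq R (FractionRing R) L]
    exact (algebraMap (FractionRing R) L).injective.comp (IsFractionRing.injective R _)
  let W := integralClosure R L
  obtain ⟨hW, hloc, -⟩ := Groth.Agent.S1964.result R W
  have hWint : ∀ y : L, IsIntegral W y → y ∈ (algebraMap W L).range := by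
    intro y hy
    exact ⟨⟨y, isIntegral_trans y hy⟩, rfl⟩
  have hac : IsAlgClosed (ResidueField W) :=
    K26.FinDom.isAlgClosed_residueField (V := W) (L := L) Subtype.val_injective hWint
  have hκ : ∀ r ∈ maximalIdeal R, algebraMap R (ResidueField W) r = 0 := by
    intro r hr
    have h1 : algebraMap R W r ∈ maximalIdeal W := by
      rw [mem_maximalIdeal, mem_nonunits_iff]
      intro hu
      exact (mem_maximalIdeal _).mp hr (isUnit_of_map_unit (algebraMap R W) r hu)
    exact Ideal.Quotient.eq_zero_iff_mem.mpr h1
  obtain ⟨ι⟩ := exists_algHom (κ := ResidueField W) hF hκ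
  have hsurj : ∀ i, ∃ w : W, residue W w = ι (x i) := fun i => residue_surjective _
  choose w hw using hsurj
  let G : MvPolynomial (Fin n) R →ₐ[R] W := MvPolynomial.aeval w
  have hint : Algebra.IsIntegral R G.range :=
    Algebra.IsIntegral.of_injective G.range.val Subtype.val_injective
  have hft : Algebra.FiniteType R G.range :=
    Algebra.FiniteType.of_surjective G.rangeRestrict G.rangeRestrict_surjective
  have hinjV : Function.Injective (algebraMap R G.range) := fun a b hab =>
    hinjL (congrArg (fun z : G.range => ((z : W) : L)) hab)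
  refine ⟨G.range, inferInstance, inferInstance, inferInstance, G.rangeRestrict,
    G.rangeRestrict_surjective, Algebra.IsIntegral.finite, hinjV, ?_⟩
  intro f v hv
  have h1 : G f = algebraMap R W t * (v : W) := congrArg Subtype.val hv
  have h2 : residue W (G f) = 0 := by
    rw [h1, map_mul]
    have h3 : residue W (algebraMap R W t) = 0 := hκ t ((mem_maximalIdeal _).mpr htu)
    rw [h3, zero_mul]
  have h4 : ι (MvPolynomial.aeval x f) = residue W (G f) := by
    have h5 : ι.comp (MvPolynomial.aeval x) =
        (IsScalarTower.toAlgHom R W (ResidueField W)).comp G := by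
      apply MvPolynomial.algHom_ext
      intro i
      simp only [AlgHom.comp_apply, MvPolynomial.aeval_X, G]
      exact (hw i).symm
    exact DFunLike.congr_fun h5 f
  rw [h2] at h4
  exact (map_eq_zero_iff _ ι.toRingHom.injective).mp h4

end K26.LiftPt
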