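import Groth.Prelude.Def_W4bk4boschfrg79
import Groth.Agent.AdicRing.K26.Compl
import Mathlib.RingTheory.AdicCompletion.Functoriality
import Mathlib.RingTheory.AdicCompletion.Exactness
import Mathlib.RingTheory.FiniteType

/-!
Basic facts on restricted power series rings and their quotients: `t`-adic completeness, the
Jacobson radical, finite type modulo `t`.
-/

set_option autoImplicit false
universe u v w

namespace K26.RPowB

open AdicRing

section general

variable (R : Type u) [CommRing R] (I : Ideal R) (n : ℕ)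

theorem map_map_eq : (I.map (MvPolynomial.C : R →+* MvPolynomial (Fin n) R)).map
    (algebraMap (MvPolynomial (Fin n) R) (RPow R I n)) = I.map (algebraMap R (RPow R I n)) := by
  rw [Ideal.map_map]
  rfl

theorem isAdicComplete_map (hI : I.FG) :
    IsAdicComplete (I.map (algebraMap R (RPow R I n))) (RPow R I n) := by
  rw [← map_map_eq]
  exact K26.Compl.isAdicComplete_map _ (hI.map _)

theorem isAdicComplete (hI : I.FG) : IsAdicComplete I (RPow R I n) := by
  rw [← IsAdicComplete.map_algebraMap_iff (S := RPow R I n)]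
  exact isAdicComplete_map R I n hI

theorem exists_sub_mem (hI : I.FG) (x : RPow R I n) :
    ∃ p : MvPolynomial (Fin n) R, x - algebraMap _ (RPow R I n) p ∈
      I.map (algebraMap R (RPow R I n)) := by
  obtain ⟨p, hp⟩ := K26.Compl.exists_sub_of_mem _ (hI.map _) x 1
  rw [pow_one, map_map_eq] at hp
  exact ⟨p, hp⟩

end general

section quot

variable {R : Type u} [CommRing R] {I : Ideal R} {n : ℕ} {B : Type v} [CommRing B] [Algebra R B]
  (φ : RPow R I n →ₐ[R] B) (hφ : Function.Surjective φ)

include hφ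

theorem map_le_jacobson (hI : I.FG) : I.map (algebraMap R B) ≤ Ideal.jacobson ⊥ := by
  have h1 : IsAdicComplete (I.map (algebraMap R (RPow R I n))) (RPow R I n) :=
    isAdicComplete_map R I n hI
  have h2 : I.map (algebraMap R (RPow R I n)) ≤ Ideal.jacobson ⊥ :=
    IsAdicComplete.le_jacobson_bot _
  rw [Ideal.map_le_iff_le_comap]
  intro x hx
  rw [Ideal.mem_comap, Ideal.mem_jacobson_bot]
  intro b
  obtain ⟨y, rfl⟩ := hφ b
  have h3 := Ideal.mem_jacobson_bot.mp (h2 (Ideal.mem_map_of_mem _ hx)) y
  have h4 := h3.map φ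
  simpa using h4

theorem isPrecomplete (hI : I.FG) : IsPrecomplete I B := by
  have h1 : IsAdicComplete I (RPow R I n) := isAdicComplete R I n hI
  rw [← AdicCompletion.of_surjective_iff]
  have h2 : Function.Surjective (AdicCompletion.map I φ.toLinearMap) :=
    AdicCompletion.map_surjective I hφ
  have h3 : Function.Surjective (AdicCompletion.of I (RPow R I n)) :=
    AdicCompletion.of_surjective I _
  intro y
  obtain ⟨x, rfl⟩ := h2 y
  obtain ⟨z, rfl⟩ := h3 x
  exact ⟨φ z, (AdicCompletion.map_of I φ.toLinearMap z).symm⟩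

theorem exists_poly_sub_mem (hI : I.FG) (b : B) :
    ∃ p : MvPolynomial (Fin n) R, b - φ (algebraMap _ (RPow R I n) p) ∈
      I.map (algebraMap R B) := by
  obtain ⟨x, rfl⟩ := hφ b
  obtain ⟨p, hp⟩ := exists_sub_mem R I n hI x
  refine ⟨p, ?_⟩
  rw [← map_sub]
  have h1 := Ideal.mem_map_of_mem (φ : RPow R I n →+* B) hp
  rw [Ideal.map_map, φ.comp_algebraMap] at h1
  exact h1

theorem finiteType_quot (hI : I.FG) : Algebra.FiniteType R (B ⧸ I.map (algebraMap R B)) := by
  let g : MvPolynomial (Fin n) R →ₐ[R] B ⧸ I.map (algebraMap R B) :=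
    ((Ideal.Quotient.mkₐ R (I.map (algebraMap R B))).comp φ).comp
      (IsScalarTower.toAlgHom R (MvPolynomial (Fin n) R) (RPow R I n))
  refine Algebra.FiniteType.of_surjective g ?_
  intro x
  obtain ⟨b, rfl⟩ := Ideal.Quotient.mk_surjective x
  obtain ⟨p, hp⟩ := exists_poly_sub_mem φ hφ hI b
  refine ⟨p, ?_⟩
  exact (Ideal.Quotient.eq.mpr hp).symm

end quot

end K26.RPowB
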