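import Groth.Agent.AdicRing.K26.Content
import Mathlib.RingTheory.FiniteType

/-!
A complete algebra of finite type over a topologically finite type algebra is topologically of finite
type.
-/

set_option autoImplicit false
universe u v w

namespace K26.TopFT

open AdicRing K26.Content

theorem topFiniteType_of_finiteType (R : Type u) [CommRing R] (I : Ideal R) (hI : I.FG)
    (A : Type u) [CommRing A] [Algebra R A] (hA : TopFiniteType R I A)
    (A' : Type u) [CommRing A'] [Algebra R A'] [Algebra A A'] [IsScalarTower R A A']
    [Algebra.FiniteType A A'] [IsAdicComplete I A'] : TopFiniteType R I A' := by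
  obtain ⟨m, φ, hφ⟩ := hA
  obtain ⟨n, π, hπ⟩ := Algebra.FiniteType.iff_quotient_mvPolynomial''.mp
    (inferInstance : Algebra.FiniteType A A')
  have hA' : IsAdicComplete (I.map (algebraMap R A')) A' := by
    rw [IsAdicComplete.map_algebraMap_iff]; infer_instance
  have hc : IsAdicComplete (I.map (algebraMap R (RPow R I (m + n)))) (RPow R I (m + n)) :=
    K26.RPowB.isAdicComplete_map R I _ hI
  -- the map
  let x : Fin (m + n) → A' := fun k => Fin.addCases
    (fun i => algebraMap A A' (φ (algebraMap (MvPolynomial (Fin m) R) (RPow R I m)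
      (MvPolynomial.X i))))
    (fun j => π (MvPolynomial.X j)) k
  let ρ : RPow R I (m + n) →ₐ[R] A' := rlift I (MvPolynomial.aeval x)
  let ι : RPow R I m →ₐ[R] RPow R I (m + n) :=
    rlift I (MvPolynomial.aeval (fun i => algebraMap (MvPolynomial (Fin (m + n)) R) _
      (MvPolynomial.X (Fin.castAdd n i))))
  have hρX : ∀ k, ρ (algebraMap (MvPolynomial (Fin (m + n)) R) _ (MvPolynomial.X k)) = x k := by
    intro k
    rw [rlift_algebraMap, MvPolynomial.aeval_X]
  have hρι : ∀ y, ρ (ι y) = algebraMap A A' (φ y) := by
    have h1 : ((ρ.comp ι : RPow R I m →ₐ[R] A') : RPow R I m →+* A') =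
        (((IsScalarTower.toAlgHom R A A').comp φ : RPow R I m →ₐ[R] A') : RPow R I m →+* A') := by
      apply K26.Compl.ringHom_ext _ (hI.map _) (I.map (algebraMap R A'))
      · have h2 : (ρ.comp ι).comp (IsScalarTower.toAlgHom R (MvPolynomial (Fin m) R) (RPow R I m)) =
            ((IsScalarTower.toAlgHom R A A').comp φ).comp
              (IsScalarTower.toAlgHom R (MvPolynomial (Fin m) R) (RPow R I m)) := by
          apply MvPolynomial.algHom_ext
          intro i
          change ρ (ι (algebraMap (MvPolynomial (Fin m) R) (RPow R I m) (MvPolynomial.X i))) =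
            algebraMap A A' (φ (algebraMap (MvPolynomial (Fin m) R) (RPow R I m)
              (MvPolynomial.X i)))
          rw [rlift_algebraMap, MvPolynomial.aeval_X, hρX]
          simp only [x, Fin.addCases_left]
        intro p
        exact DFunLike.congr_fun h2 p
      · intro p hp
        exact map_C_le I ((ρ.comp ι).comp
          (IsScalarTower.toAlgHom R (MvPolynomial (Fin m) R) (RPow R I m))) p hp
    intro y
    exact RingHom.congr_fun h1 y
  refine ⟨m + n, ρ, ?_⟩
  intro z
  obtain ⟨p, rfl⟩ := hπ z
  change π p ∈ ρ.range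
  induction p using MvPolynomial.induction_on with
  | C a =>
    obtain ⟨y, rfl⟩ := hφ a
    refine ⟨ι y, ?_⟩
    have h3 : π (MvPolynomial.C (φ y)) = algebraMap A A' (φ y) := π.commutes (φ y)
    rw [h3]
    exact hρι y
  | add p q hp hq => rw [map_add]; exact add_mem hp hq
  | mul_X p j hp =>
    rw [map_mul]
    refine mul_mem hp ⟨algebraMap (MvPolynomial (Fin (m + n)) R) _
      (MvPolynomial.X (Fin.natAdd m j)), ?_⟩
    have h4 := hρX (Fin.natAdd m j)
    simp only [x, Fin.addCases_right] at h4
    exact h4

end K26.TopFT
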