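import Groth.Agent.AdicRing.K26.RPowB
import Groth.Agent.AdicRing.K26.CLocQ
import Groth.Agent.AdicRing.K26.FinFree
import Groth.Agent.S8800
import Mathlib.RingTheory.FinitePresentation

/-!
Finite presentation of truncations versus topological finite presentation.
-/

set_option autoImplicit false
universe u v w

namespace K26.TruncFP

open AdicRing

section general

variable {R : Type u} [CommRing R] (I : Ideal R)

/-- Finite presentation of a truncation can be tested over `R`. -/
theorem quotientMap_finitePresentation_iff (hI : I.FG) (A : Type u) [CommRing A] [Algebra R A]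
    (m : ℕ) : (Ideal.quotientMap ((I ^ m).map (algebraMap R A)) (algebraMap R A)
        Ideal.le_comap_map : R ⧸ I ^ m →+* A ⧸ (I ^ m).map (algebraMap R A)).FinitePresentation ↔
      Algebra.FinitePresentation R (A ⧸ (I ^ m).map (algebraMap R A)) := by
  have h1 : (Ideal.Quotient.mk (I ^ m)).FinitePresentation :=
    RingHom.FinitePresentation.of_surjective _ Ideal.Quotient.mk_surjective
      (by rw [Ideal.mk_ker]; exact Ideal.FG.pow hI)
  have h2 : (Ideal.quotientMap ((I ^ m).map (algebraMap R A)) (algebraMap R A)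
        Ideal.le_comap_map : R ⧸ I ^ m →+* A ⧸ (I ^ m).map (algebraMap R A)).comp
        (Ideal.Quotient.mk (I ^ m)) = algebraMap R (A ⧸ (I ^ m).map (algebraMap R A)) := rfl
  rw [← RingHom.finitePresentation_algebraMap, ← h2]
  constructor
  · intro h
    exact h.comp h1
  · intro h
    exact RingHom.FinitePresentation.of_comp_finiteType _ h
      (RingHom.FiniteType.of_surjective _ Ideal.Quotient.mk_surjective)

/-- The truncations of the restricted power series ring are of finite presentation. -/
theorem finitePresentation_rPow (hI : I.FG) (n m : ℕ) : Algebra.FinitePresentation R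
    (RPow R I n ⧸ (I ^ m).map (algebraMap R (RPow R I n))) := by
  let f : MvPolynomial (Fin n) R →ₐ[R] RPow R I n ⧸ (I ^ m).map (algebraMap R (RPow R I n)) :=
    (Ideal.Quotient.mkₐ R _).comp (IsScalarTower.toAlgHom R (MvPolynomial (Fin n) R) (RPow R I n))
  have hpow : ((I.map (MvPolynomial.C : R →+* MvPolynomial (Fin n) R)) ^ m).map
      (algebraMap (MvPolynomial (Fin n) R) (RPow R I n)) =
      (I ^ m).map (algebraMap R (RPow R I n)) := by
    rw [← Ideal.map_pow, Ideal.map_map]
    rfl
  have hsurj : Function.Surjective f := by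
    intro x
    obtain ⟨y, rfl⟩ := Ideal.Quotient.mk_surjective x
    obtain ⟨p, hp⟩ := K26.Compl.exists_sub_of_mem _ (hI.map _) y m
    rw [hpow] at hp
    exact ⟨p, (Ideal.Quotient.eq.mpr hp).symm⟩
  have hker : RingHom.ker f.toRingHom =
      (I.map (MvPolynomial.C : R →+* MvPolynomial (Fin n) R)) ^ m := by
    ext p
    constructor
    · intro hp
      have h1 : algebraMap (MvPolynomial (Fin n) R) (RPow R I n) p ∈
          (I ^ m).map (algebraMap R (RPow R I n)) := Ideal.Quotient.eq_zero_iff_mem.mp hp
      rw [← hpow] at h1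
      have h2 := K26.Compl.evalₐ_eq_zero_of_mem _ _ m h1
      rwa [AlgHom.commutes, Ideal.Quotient.algebraMap_eq, Ideal.Quotient.eq_zero_iff_mem] at h2
    · intro hp
      have h1 : algebraMap (MvPolynomial (Fin n) R) (RPow R I n) p ∈
          (I ^ m).map (algebraMap R (RPow R I n)) := by
        rw [← hpow]; exact Ideal.mem_map_of_mem _ hp
      exact Ideal.Quotient.eq_zero_iff_mem.mpr h1
  exact Algebra.FinitePresentation.of_surjective hsurj (by
    rw [hker]; exact Ideal.FG.pow (hI.map _))

/-- The map on truncations induced by an algebra map. -/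
noncomputable def tmap {D A : Type u} [CommRing D] [Algebra R D] [CommRing A] [Algebra R A]
    (φ : D →ₐ[R] A) (m : ℕ) : D ⧸ (I ^ m).map (algebraMap R D) →ₐ[R]
      A ⧸ (I ^ m).map (algebraMap R A) :=
  Ideal.quotientMapₐ _ φ (by
    rw [← Ideal.map_le_iff_le_comap]
    change ((I ^ m).map (algebraMap R D)).map (φ : D →+* A) ≤ _
    rw [Ideal.map_map, φ.comp_algebraMap])

theorem tmap_mk {D A : Type u} [CommRing D] [Algebra R D] [CommRing A] [Algebra R A]
    (φ : D →ₐ[R] A) (m : ℕ) (d : D) : tmap I φ m (Ideal.Quotient.mk _ d) =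
      Ideal.Quotient.mk _ (φ d) := rfl

theorem tmap_surjective {D A : Type u} [CommRing D] [Algebra R D] [CommRing A] [Algebra R A]
    (φ : D →ₐ[R] A) (hφ : Function.Surjective φ) (m : ℕ) : Function.Surjective (tmap I φ m) := by
  intro x
  obtain ⟨a, rfl⟩ := Ideal.Quotient.mk_surjective x
  obtain ⟨d, rfl⟩ := hφ a
  exact ⟨Ideal.Quotient.mk _ d, rfl⟩

theorem ker_tmap {D A : Type u} [CommRing D] [Algebra R D] [CommRing A] [Algebra R A]
    (φ : D →ₐ[R] A) (hφ : Function.Surjective φ) (m : ℕ) :
    RingHom.ker (tmap I φ m).toRingHom = (RingHom.ker φ.toRingHom).map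
      (Ideal.Quotient.mk ((I ^ m).map (algebraMap R D))) := by
  ext x
  obtain ⟨d, rfl⟩ := Ideal.Quotient.mk_surjective x
  constructor
  · intro hx
    have h1 : φ d ∈ (I ^ m).map (algebraMap R A) := Ideal.Quotient.eq_zero_iff_mem.mp hx
    have h2 : (I ^ m).map (algebraMap R A) = ((I ^ m).map (algebraMap R D)).map
        (φ : D →+* A) := by rw [Ideal.map_map, φ.comp_algebraMap]
    rw [h2, Ideal.mem_map_iff_of_surjective (φ : D →+* A) hφ] at h1
    obtain ⟨e, he, hed⟩ := h1
    have h3 : Ideal.Quotient.mk ((I ^ m).map (algebraMap R D)) d =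
        Ideal.Quotient.mk ((I ^ m).map (algebraMap R D)) (d - e) := by
      rw [Ideal.Quotient.eq]; simpa using he
    rw [h3]
    apply Ideal.mem_map_of_mem
    change φ (d - e) = 0
    rw [map_sub, sub_eq_zero]
    exact hed.symm
  · intro hx
    rw [Ideal.mem_map_iff_of_surjective _ Ideal.Quotient.mk_surjective] at hx
    obtain ⟨e, he, hed⟩ := hx
    rw [← hed]
    change tmap I φ m (Ideal.Quotient.mk _ e) = 0
    rw [tmap_mk]
    have h1 : φ e = 0 := he
    rw [h1, map_zero]

/-- The truncations of an algebra topologically of finite presentation are of finite presentation. -/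
theorem finitePresentation_trunc (hI : I.FG) (A : Type u) [CommRing A] [Algebra R A]
    (hA : TopFinitePresentation R I A) (m : ℕ) :
    Algebra.FinitePresentation R (A ⧸ (I ^ m).map (algebraMap R A)) := by
  obtain ⟨n, φ, hφ, hker⟩ := hA
  have h1 := finitePresentation_rPow I hI n m
  refine Algebra.FinitePresentation.of_surjective (tmap_surjective I φ hφ m) ?_
  rw [ker_tmap I φ hφ m]
  exact hker.map _

end general

section valuation

variable {R : Type u} [CommRing R] (t : R)

theorem exists_eq_mul_of_mem {D : Type u} [CommRing D] [Algebra R D] (m : ℕ) (x : D)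
    (hx : x ∈ ((Ideal.span {t}) ^ m).map (algebraMap R D)) :
    ∃ e : D, x = algebraMap R D t ^ m * e := by
  rwa [K26.Content.map_span_pow, Ideal.mem_span_singleton] at hx

/-- The kernel of a surjection onto an algebra with finitely presented truncations is finitely
generated, once its saturation is. -/
theorem ker_fg {D A : Type u} [CommRing D] [Algebra R D] [CommRing A] [Algebra R A]
    [hDc : IsAdicComplete (Ideal.span {t}) D]
    (φ : D →ₐ[R] A) (hφ : Function.Surjective φ)
    (hD : ∀ m, Algebra.FinitePresentation R (D ⧸ ((Ideal.span {t}) ^ m).map (algebraMap R D)))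
    (hA : ∀ m, Algebra.FinitePresentation R (A ⧸ ((Ideal.span {t}) ^ (m + 1)).map (algebraMap R A)))
    (hsat : ∀ J : Ideal D, (∀ (x : D) (n : ℕ), algebraMap R D t ^ n * x ∈ J → x ∈ J) → J.FG) :
    (RingHom.ker φ.toRingHom).FG := by
  classical
  -- the saturation
  let K : Ideal D := RingHom.ker φ.toRingHom
  let τ : D := algebraMap R D t
  let S : Ideal D :=
    { carrier := {x | ∃ n : ℕ, τ ^ n * x ∈ K}
      add_mem' := by
        rintro x y ⟨n, hn⟩ ⟨m, hm⟩
        refine ⟨n + m, ?_⟩
        have h1 : τ ^ (n + m) * (x + y) = τ ^ m * (τ ^ n * x) + τ ^ n * (τ ^ m * y) := by ring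
        rw [h1]
        exact add_mem (K.mul_mem_left _ hn) (K.mul_mem_left _ hm)
      zero_mem' := ⟨0, by simp⟩
      smul_mem' := by
        rintro c x ⟨n, hn⟩
        refine ⟨n, ?_⟩
        have h1 : τ ^ n * (c • x) = c * (τ ^ n * x) := by rw [smul_eq_mul]; ring
        rw [h1]
        exact K.mul_mem_left _ hn }
  have hKS : K ≤ S := fun x hx => ⟨0, by rw [pow_zero, one_mul]; exact hx⟩
  have hSfg : S.FG := by
    apply hsat
    rintro x n ⟨m, hm⟩
    refine ⟨m + n, ?_⟩
    rw [pow_add, mul_assoc]
    exact hm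
  -- a uniform exponent
  have hN : ∃ N : ℕ, ∀ x ∈ S, τ ^ N * x ∈ K := by
    obtain ⟨T, hT⟩ := hSfg
    have h1 : ∀ x : T, ∃ n : ℕ, τ ^ n * (x : D) ∈ K := fun x => by
      have : (x : D) ∈ S := by rw [← hT]; exact Ideal.subset_span x.2
      exact this
    choose N hN using h1
    refine ⟨∑ x, N x, fun x hx => ?_⟩
    rw [← hT] at hx
    induction hx using Submodule.span_induction with
    | mem x hx =>
      have h4 : N ⟨x, hx⟩ ≤ ∑ b : T, N b := Finset.single_le_sum (f := N)
        (fun _ _ => Nat.zero_le _) (Finset.mem_univ (⟨x, hx⟩ : T))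
      obtain ⟨k, hk⟩ := Nat.exists_eq_add_of_le h4
      rw [hk, pow_add, mul_comm (τ ^ N ⟨x, hx⟩), mul_assoc]
      exact K.mul_mem_left _ (hN ⟨x, hx⟩)
    | zero => rw [mul_zero]; exact K.zero_mem
    | add x y _ _ hx hy => rw [mul_add]; exact add_mem hx hy
    | smul c x _ hx =>
      rw [smul_eq_mul, mul_left_comm]
      exact K.mul_mem_left _ hx
  obtain ⟨N, hN⟩ := hN
  -- generators modulo `t ^ (N + 1)`
  have := hD (N + 1)
  have := hA N
  have h2 := Algebra.FinitePresentation.ker_fG_of_surjective
    (tmap (Ideal.span {t}) φ (N + 1)) (tmap_surjective _ φ hφ (N + 1))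
  rw [ker_tmap _ φ hφ] at h2
  obtain ⟨T', hT'⟩ := h2
  have h3 : ∀ y : T', ∃ x ∈ K, Ideal.Quotient.mk (((Ideal.span {t}) ^ (N + 1)).map (algebraMap R D)) x
      = y := by
    intro y
    have h4 : (y : D ⧸ ((Ideal.span {t}) ^ (N + 1)).map (algebraMap R D)) ∈
        K.map (Ideal.Quotient.mk (((Ideal.span {t}) ^ (N + 1)).map (algebraMap R D))) := by
      rw [← hT']; exact Ideal.subset_span y.2
    rw [Ideal.mem_map_iff_of_surjective _ Ideal.Quotient.mk_surjective] at h4
    exact h4
  choose g hgK hg using h3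
  -- the comparison map
  let F : (T' → D) →ₗ[R] K :=
    ∑ y : T', ((LinearMap.toSpanSingleton D K ⟨g y, hgK y⟩).restrictScalars R).comp
      (LinearMap.proj y : (T' → D) →ₗ[R] D)
  have hF : ∀ c : T' → D, ((F c : K) : D) = ∑ y : T', c y * g y := by
    intro c
    simp only [F, LinearMap.sum_apply, LinearMap.comp_apply, LinearMap.proj_apply,
      LinearMap.coe_restrictScalars, LinearMap.toSpanSingleton_apply, Submodule.coe_sum,
      Submodule.coe_smul, smul_eq_mul]
  have hH : IsHausdorff (Ideal.span {t}) K := by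
    constructor
    intro x hx
    apply Subtype.ext
    have hDH : IsHausdorff (Ideal.span {t}) D := inferInstance
    apply hDH.haus
    intro n
    have h5 := hx n
    rw [SModEq.zero] at h5 ⊢
    exact K26.FinFree.map_mem_smul_top (K.subtype.restrictScalars R) _ h5
  have hP : IsPrecomplete (Ideal.span {t}) (T' → D) := K26.FinFree.isPrecomplete_pi _ _
  have hsurj : Function.Surjective F := by
    apply surjective_of_mkQ_comp_surjective (I := Ideal.span {t})
    intro z
    obtain ⟨a, rfl⟩ := Submodule.Quotient.mk_surjective _ z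
    have h5 : Ideal.Quotient.mk (((Ideal.span {t}) ^ (N + 1)).map (algebraMap R D)) (a : D) ∈
        Ideal.span (T' : Set (D ⧸ ((Ideal.span {t}) ^ (N + 1)).map (algebraMap R D))) := by
      rw [hT']; exact Ideal.mem_map_of_mem _ a.2
    obtain ⟨c, hc⟩ := Submodule.mem_span_finset'.mp h5
    have hc' : ∀ y : T', ∃ d : D, Ideal.Quotient.mk
        (((Ideal.span {t}) ^ (N + 1)).map (algebraMap R D)) d = c y :=
      fun y => Ideal.Quotient.mk_surjective _
    choose d hd using hc'
    have h6 : (a : D) - ∑ y : T', d y * g y ∈ ((Ideal.span {t}) ^ (N + 1)).map (algebraMap R D) := by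
      rw [← Ideal.Quotient.eq, ← hc, map_sum]
      refine Finset.sum_congr rfl (fun y _ => ?_)
      rw [map_mul, hd, hg, smul_eq_mul]
    obtain ⟨e, he⟩ := exists_eq_mul_of_mem t (N + 1) _ h6
    have h7 : τ ^ (N + 1) * e ∈ K := by
      have h8 : τ ^ (N + 1) * e = (a : D) - ∑ y : T', d y * g y := he.symm
      rw [h8]
      exact sub_mem a.2 (Ideal.sum_mem _ (fun y _ => K.mul_mem_left _ (hgK y)))
    have h9 : τ ^ N * e ∈ K := hN e ⟨N + 1, h7⟩
    refine ⟨d, ?_⟩
    change Submodule.Quotient.mk (F d) = _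
    rw [Submodule.Quotient.eq]
    have h10 : F d - a = t • (-(⟨τ ^ N * e, h9⟩ : K)) := by
      apply Subtype.ext
      have h11 : ((F d - a : K) : D) = (∑ y : T', d y * g y) - a := by
        rw [← hF]; rfl
      rw [h11]
      have h12 : ((t • (-(⟨τ ^ N * e, h9⟩ : K)) : K) : D) = -(τ * (τ ^ N * e)) := by
        change t • (-(τ ^ N * e)) = _
        rw [Algebra.smul_def]
        ring
      rw [h12]
      have h13 : (a : D) = (∑ y : T', d y * g y) + τ ^ (N + 1) * e := by
        rw [← he]; ring
      have h15 : τ ^ (N + 1) = τ * τ ^ N := pow_succ' τ N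
      have h16 : τ ^ (N + 1) * e = τ * (τ ^ N * e) := by rw [h15, mul_assoc]
      rw [h13, h16]
      ring
    rw [h10]
    exact Submodule.smul_mem_smul (Ideal.mem_span_singleton_self t) trivial
  refine ⟨Finset.univ.image g, ?_⟩
  apply le_antisymm
  · rw [Ideal.span_le]
    intro x hx
    simp only [Finset.coe_image, Finset.coe_univ, Set.image_univ, Set.mem_range] at hx
    obtain ⟨y, rfl⟩ := hx
    exact hgK y
  · intro x hx
    obtain ⟨c, hc⟩ := hsurj ⟨x, hx⟩
    have h14 : x = ∑ y : T', c y * g y := by rw [← hF, hc]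
    rw [h14]
    refine Ideal.sum_mem _ (fun y _ => Ideal.mul_mem_left _ _ (Ideal.subset_span ?_))
    simp only [Finset.coe_image, Finset.coe_univ, Set.image_univ, Set.mem_range]
    exact ⟨y, rfl⟩

end valuation

end K26.TruncFP
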